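import Mathlib
import Cfsg.Agent.Char.Kernel
import Cfsg.Agent.Char.Integrality

/-!
# Characters of a group with a self-centralising normal TI kernel

`K` is a normal subgroup containing the centraliser of each of its non-identity elements
(the kernel of a Frobenius group).
-/

namespace Cfsg.Agent.CharExt

universe u

open scoped ComplexConjugate

variable {N : Type u} [Group N] [Fintype N] (K : Subgroup N) [K.Normal]

/-- `K` lies in the kernel of `χ`. -/
def KTriv (χ : Cfsg.IrrCharacter N) : Prop := ∀ k ∈ K, (χ : N → ℂ) k = (χ : N → ℂ) 1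

open Classical in
theorem sum_kTriv (f : Cfsg.IrrCharacter N → ℂ) :
    ∑ χ ∈ Finset.univ.filter (KTriv K), f χ =
      ∑ ψ : Cfsg.IrrCharacter (N ⧸ K), f (Char.irrEquivQuotient K ψ) := by
  rw [Finset.sum_subtype (Finset.univ.filter (KTriv K))
    (p := fun χ : Cfsg.IrrCharacter N => ∀ k ∈ K, (χ : N → ℂ) k = (χ : N → ℂ) 1)
    (fun χ => by simp [KTriv]) f]
  exact (Fintype.sum_equiv (Char.irrEquivQuotient K) _ _ (fun _ => rfl)).symm

open Classical in
/-- Degrees times values, summed over the characters nontrivial on `K`. -/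
theorem sum_not_kTriv_mul (g : N) :
    ∑ χ ∈ Finset.univ.filter (fun χ => ¬ KTriv K χ), (χ : N → ℂ) 1 * (χ : N → ℂ) g =
      (if g = 1 then (Nat.card N : ℂ) else 0) - if g ∈ K then (K.index : ℂ) else 0 := by
  rw [← Char.sum_irr_degree_mul g, eq_sub_iff_add_eq,
    ← Finset.sum_filter_add_sum_filter_not Finset.univ (KTriv K)
      (fun χ => (χ : N → ℂ) 1 * (χ : N → ℂ) g), add_comm, sum_kTriv]
  congr 1
  have h1 : ∀ ψ : Cfsg.IrrCharacter (N ⧸ K),
      ((Char.irrEquivQuotient K ψ : Cfsg.IrrCharacter N) : N → ℂ) 1 *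
        ((Char.irrEquivQuotient K ψ : Cfsg.IrrCharacter N) : N → ℂ) g =
      (ψ : N ⧸ K → ℂ) 1 * (ψ : N ⧸ K → ℂ) (g : N ⧸ K) := fun ψ => by
    rw [Char.irrEquivQuotient_apply, Char.irrEquivQuotient_apply, QuotientGroup.mk_one]
  simp only [h1]
  rw [Char.sum_irr_degree_mul]
  simp only [QuotientGroup.eq_one_iff, Subgroup.index]

open Classical in
/-- An irreducible character nontrivial on the Frobenius kernel vanishes off it. -/
theorem eq_zero_of_notMem (hC : ∀ k ∈ K, k ≠ 1 → Subgroup.centralizer ({k} : Set N) ≤ K)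
    {χ : Cfsg.IrrCharacter N} (hχ : ¬ KTriv K χ) {x : N} (hx : x ∉ K) : (χ : N → ℂ) x = 0 := by
  have h1 : ∑ ψ : Cfsg.IrrCharacter N, (Complex.normSq ((ψ : N → ℂ) x) : ℂ) =
      (Nat.card (Subgroup.centralizer ({x} : Set N)) : ℂ) := by
    simp only [← Complex.mul_conj]
    rw [Char.sum_irr_mul_conj, if_pos (IsConj.refl x)]
  have h2 : ∑ ψ ∈ Finset.univ.filter (KTriv K), (Complex.normSq ((ψ : N → ℂ) x) : ℂ) =
      (Nat.card (Subgroup.centralizer ({(x : N ⧸ K)} : Set (N ⧸ K))) : ℂ) := by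
    rw [sum_kTriv]
    simp only [Char.irrEquivQuotient_apply, ← Complex.mul_conj]
    rw [Char.sum_irr_mul_conj, if_pos (IsConj.refl _)]
  have h3 : Nat.card (Subgroup.centralizer ({x} : Set N)) ≤
      Nat.card (Subgroup.centralizer ({(x : N ⧸ K)} : Set (N ⧸ K))) := by
    refine Nat.card_le_card_of_injective
      (fun c => ⟨((c : N) : N ⧸ K), ?_⟩) ?_
    · rw [Subgroup.mem_centralizer_singleton_iff]
      rw [← QuotientGroup.mk_mul, ← QuotientGroup.mk_mul,
        Subgroup.mem_centralizer_singleton_iff.mp c.2]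
    · rintro ⟨a, ha⟩ ⟨b, hb⟩ hab
      have hab' : (a : N ⧸ K) = (b : N ⧸ K) := congrArg Subtype.val hab
      have hk : a⁻¹ * b ∈ K := QuotientGroup.eq.mp hab'
      by_contra hne
      have h1' : a⁻¹ * b ≠ 1 := fun h => hne (Subtype.ext (inv_mul_eq_one.mp h))
      have hc := (Subgroup.centralizer ({x} : Set N)).mul_mem
        ((Subgroup.centralizer ({x} : Set N)).inv_mem ha) hb
      apply hx
      apply hC _ hk h1'
      rw [Subgroup.mem_centralizer_singleton_iff]
      exact (Subgroup.mem_centralizer_singleton_iff.mp hc).symm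
  have h4 : ∑ ψ ∈ Finset.univ.filter (fun ψ => ¬ KTriv K ψ), Complex.normSq ((ψ : N → ℂ) x) ≤ 0 := by
    have hall := Finset.sum_filter_add_sum_filter_not Finset.univ (KTriv K)
      (fun ψ => (Complex.normSq ((ψ : N → ℂ) x) : ℂ))
    rw [h1, h2] at hall
    have hre := congrArg Complex.re hall
    simp only [Complex.add_re, Complex.re_sum, Complex.ofReal_re, Complex.natCast_re] at hre
    have h3' : (Nat.card (Subgroup.centralizer ({x} : Set N)) : ℝ) ≤
        Nat.card (Subgroup.centralizer ({(x : N ⧸ K)} : Set (N ⧸ K))) := by exact_mod_cast h3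
    linarith
  have h5 := (Finset.sum_eq_zero_iff_of_nonneg (fun ψ _ => Complex.normSq_nonneg _)).mp
    (le_antisymm h4 (Finset.sum_nonneg fun ψ _ => Complex.normSq_nonneg _)) χ (by simp [hχ])
  exact Complex.normSq_eq_zero.mp h5

open Classical in
/-- The average over `K` of a character nontrivial on `K` vanishes. -/
theorem sum_kernel_eq_zero (hC : ∀ k ∈ K, k ≠ 1 → Subgroup.centralizer ({k} : Set N) ≤ K)
    {χ : Cfsg.IrrCharacter N} (hχ : ¬ KTriv K χ) : ∑ k : K, (χ : N → ℂ) k = 0 := by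
  have h1 : (χ : N → ℂ) ≠ fun _ => 1 := fun h => hχ (fun k _ => by rw [h])
  rw [← Char.irr_sum_eq_zero χ.2 h1, ← Finset.sum_filter_of_ne
    (s := Finset.univ) (f := (χ : N → ℂ)) (p := fun x => x ∈ K)
    (fun x _ hne => by by_contra hx; exact hne (eq_zero_of_notMem K hC hχ hx))]
  exact (Finset.sum_subtype _ (fun x => by simp) _).symm

open Classical in
/-- Inner products of characters nontrivial on `K` only see `K`. -/
theorem sum_kernel_mul_conj (hC : ∀ k ∈ K, k ≠ 1 → Subgroup.centralizer ({k} : Set N) ≤ K)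
    {χ : Cfsg.IrrCharacter N} (hχ : ¬ KTriv K χ) (f : N → ℂ) :
    ∑ k : K, (χ : N → ℂ) k * conj (f k) = (Nat.card N : ℂ) * Cfsg.classInner (χ : N → ℂ) f := by
  rw [Cfsg.classInner, mul_inv_cancel_left₀ Char.card_ne_zero_complex, ← Finset.sum_filter_of_ne
    (s := Finset.univ) (f := fun x => (χ : N → ℂ) x * conj (f x)) (p := fun x => x ∈ K)
    (fun x _ hne => by
      by_contra hx
      exact hne (by rw [eq_zero_of_notMem K hC hχ hx, zero_mul]))]
  exact (Finset.sum_subtype _ (fun x => by simp) (fun x => (χ : N → ℂ) x * conj (f x))).symm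

end Cfsg.Agent.CharExt
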