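import Mathlib
import Cfsg.Prelude.Def_OddOrderChar
import Cfsg.Agent.CharExt.FrobeniusChars
import Cfsg.Agent.CharInd.TI
import Cfsg.Agent.Char.Linear

/-!
# Exceptional characters of a TI subgroup with Frobenius normaliser

`M` is a subgroup of `G`, `L` a normal subgroup of `M` which is a trivial-intersection set with
normaliser `M` and contains the centraliser in `M` of each of its non-identity elements.
-/

namespace Cfsg.Agent.CharExt

universe u

open scoped ComplexConjugate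
open Cfsg

variable {G : Type u} [Group G] [Fintype G] (M : Subgroup G) [Fintype M] (L : Subgroup M) [L.Normal]

/-- The characters of `M` nontrivial on `L`. -/
def excSet : Set (M → ℂ) :=
  {χ | Cfsg.IsIrrCharacter M χ ∧ ∃ k : M, k ∈ L ∧ χ k ≠ χ 1}

omit [Fintype G] [Fintype M] [L.Normal] in
theorem mem_excSet {χ : Cfsg.IrrCharacter M} : (χ : M → ℂ) ∈ excSet M L ↔ ¬ KTriv L χ := by
  simp [excSet, KTriv, χ.2]

/-- `ξ(1)χ - χ(1)ξ`. -/
noncomputable def excDiff (χ ξ : M → ℂ) : M → ℂ := ξ 1 • χ - χ 1 • ξ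

variable (hTI : ∀ g : G, g ∉ M → ∀ k : M, k ∈ L → ∀ k' : M, k' ∈ L → g * (k : G) * g⁻¹ = k' → k = 1)
  (hC : ∀ k ∈ L, k ≠ 1 → Subgroup.centralizer ({k} : Set M) ≤ L)
  (star : (M → ℂ) → (G → ℂ))
  (hstar : Cfsg.IsLinearIsometryOn (Cfsg.zspan (excSet M L)) star)
  (hext : ∀ α ∈ Cfsg.zspanOn (excSet M L) ({1}ᶜ : Set M), star α = Cfsg.indFun M α)

include hstar hext in
omit [L.Normal] in
theorem star_diff {χ ξ : M → ℂ} (hχ : χ ∈ excSet M L) (hξ : ξ ∈ excSet M L) :
    ξ 1 • star χ - χ 1 • star ξ = Cfsg.indFun M (excDiff M χ ξ) := by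
  obtain ⟨a, -, ha⟩ := Char.irr_one_pos hχ.1
  obtain ⟨b, -, hb⟩ := Char.irr_one_pos hξ.1
  have hmem : ∀ φ ∈ excSet M L, ∀ n : ℤ, n • φ ∈ Cfsg.zspan (excSet M L) := fun φ hφ n =>
    Submodule.smul_mem _ n (Submodule.subset_span hφ)
  have hα : excDiff M χ ξ = (b : ℤ) • χ + (-(a : ℤ)) • ξ := by
    funext x
    simp [excDiff, ha, hb, sub_eq_add_neg]
  have hαS : excDiff M χ ξ ∈ Cfsg.zspanOn (excSet M L) ({1}ᶜ : Set M) := by
    refine ⟨?_, fun x hx => ?_⟩
    · rw [hα]
      exact Submodule.add_mem _ (hmem χ hχ _) (hmem ξ hξ _)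
    · have hx1 : x = 1 := by simpa using hx
      simp [hx1, excDiff]
      ring
  rw [← hext _ hαS, hα, hstar.1 _ (hmem χ hχ _) _ (hmem ξ hξ _),
    hstar.2.1 _ (Submodule.subset_span hχ), hstar.2.1 _ (Submodule.subset_span hξ)]
  funext g
  simp [ha, hb, sub_eq_add_neg]

include hTI hC hstar hext in
theorem star_diff_apply {χ ξ : M → ℂ} (hχ : χ ∈ excSet M L) (hξ : ξ ∈ excSet M L)
    (k : M) (hk : k ∈ L) (hk1 : k ≠ 1) :
    ξ 1 * (star χ k - χ k) = χ 1 * (star ξ k - ξ k) := by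
  have h1 := congrFun (star_diff M L star hstar hext hχ hξ) (k : G)
  have hψ : Cfsg.IsClassFunction M (excDiff M χ ξ) := fun g h => by
    simp [excDiff, Char.irr_isClassFunction hχ.1 g h, Char.irr_isClassFunction hξ.1 g h]
  have h2 : Cfsg.indFun M (excDiff M χ ξ) (k : G) = excDiff M χ ξ k := by
    refine CharInd.indFun_ti_apply M (Subtype.val '' (L : Set M)) ?_ hψ ?_ k ⟨k, hk, rfl⟩ hk1
    · rintro g hg _ ⟨a, ha, rfl⟩ ⟨b, hb, hab⟩
      simpa using hTI g hg a ha b hb hab.symm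
    · intro x hx
      have hxL : x ∉ L := fun h => hx ⟨x, h, rfl⟩
      have hz : ∀ φ ∈ excSet M L, φ x = 0 := fun φ hφ => eq_zero_of_notMem L hC
        (χ := ⟨φ, hφ.1⟩) ((mem_excSet M L).mp hφ) hxL
      simp [excDiff, hz χ hχ, hz ξ hξ]
  rw [h2] at h1
  simp only [Pi.sub_apply, Pi.smul_apply, smul_eq_mul, excDiff] at h1
  linear_combination h1

open Classical in
/-- Values on `L#` of a class function whose coefficients on the exceptional set are known. -/
theorem restrict_eq {F : M → ℂ} (hF : Cfsg.IsClassFunction M F) (c : Cfsg.IrrCharacter M → ℂ)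
    (lam : ℂ) (hcoef : ∀ η : Cfsg.IrrCharacter M, ¬ KTriv L η →
      Cfsg.classInner F (η : M → ℂ) = c η + lam * (η : M → ℂ) 1)
    {k : M} (hk : k ∈ L) (hk1 : k ≠ 1) :
    F k = (∑ η ∈ Finset.univ.filter (fun η => ¬ KTriv L η), c η * (η : M → ℂ) k)
      + ((∑ β ∈ Finset.univ.filter (fun β => KTriv L β),
          Cfsg.classInner F (β : M → ℂ) * (β : M → ℂ) 1) - lam * (L.index : ℂ)) := by
  have h1 := congrFun (Char.eq_sum_classInner_smul hF) k
  simp only [Finset.sum_apply, Pi.smul_apply, smul_eq_mul] at h1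
  rw [← Finset.sum_filter_add_sum_filter_not Finset.univ (KTriv L)] at h1
  rw [Finset.sum_congr rfl (fun β hβ => by rw [(Finset.mem_filter.mp hβ).2 k hk])] at h1
  rw [Finset.sum_congr rfl (s₁ := Finset.univ.filter (fun η => ¬ KTriv L η))
    (fun η hη => by rw [hcoef η (Finset.mem_filter.mp hη).2, add_mul, mul_assoc]),
    Finset.sum_add_distrib, ← Finset.mul_sum, sum_not_kTriv_mul, if_neg hk1, if_pos hk] at h1
  rw [h1]
  ring

include hstar hext in
/-- The coefficients of the restriction of a class function orthogonal to the exceptional ones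
up to `c`. -/
theorem coef_eq {ψ : G → ℂ} (hψ : Cfsg.IsClassFunction G ψ) (c : Cfsg.IrrCharacter M → ℂ)
    (hc : ∀ η : Cfsg.IrrCharacter M, ¬ KTriv L η →
      Cfsg.classInner ψ (star η) = c η)
    {ξ : Cfsg.IrrCharacter M} (hξ : ¬ KTriv L ξ) (η : Cfsg.IrrCharacter M) (hη : ¬ KTriv L η) :
    Cfsg.classInner (fun x : M => ψ x) (η : M → ℂ) = c η +
      (Cfsg.classInner (fun x : M => ψ x) (ξ : M → ℂ) - c ξ) / (ξ : M → ℂ) 1 * (η : M → ℂ) 1 := by
  have h1 := CharInd.classInner_indFun_right M (excDiff M (η : M → ℂ) (ξ : M → ℂ)) hψ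
  rw [← star_diff M L star hstar hext ((mem_excSet M L).mpr hη) ((mem_excSet M L).mpr hξ),
    Char.classInner_sub_right, Char.classInner_smul_right, Char.classInner_smul_right,
    hc η hη, hc ξ hξ, excDiff, Char.classInner_sub_right, Char.classInner_smul_right,
    Char.classInner_smul_right] at h1
  obtain ⟨a, -, ha⟩ := Char.irr_one_pos η.2
  obtain ⟨b, hb0, hb⟩ := Char.irr_one_pos ξ.2
  rw [ha, hb, map_natCast, map_natCast] at h1
  rw [ha, hb]
  have hb' : (b : ℂ) ≠ 0 := Nat.cast_ne_zero.mpr hb0.ne'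
  field_simp
  linear_combination -h1

include hstar in
omit [L.Normal] in
theorem star_inner {χ ξ : M → ℂ} (hχ : χ ∈ excSet M L) (hξ : ξ ∈ excSet M L) :
    Cfsg.classInner (star χ) (star ξ) = Cfsg.classInner χ ξ :=
  hstar.2.2.1 _ (Submodule.subset_span hχ) _ (Submodule.subset_span hξ)

include hstar hext in
open Classical in
/-- An extended exceptional character differs from the character by a constant on `L#`. -/
theorem star_sub_const {χ : Cfsg.IrrCharacter M} (hχ : ¬ KTriv L χ) :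
    ∃ d : ℂ, ∀ k ∈ L, k ≠ 1 → star χ (k : G) = (χ : M → ℂ) k + d := by
  have hgen := hstar.2.2.2 _ (Submodule.subset_span ((mem_excSet M L).mpr hχ))
  have hcl : Cfsg.IsClassFunction G (star (χ : M → ℂ)) :=
    Char.isGeneralizedCharacter_isClassFunction hgen
  have hcl' : Cfsg.IsClassFunction M (fun x : M => star (χ : M → ℂ) x) := fun g h => hcl g h
  set c : Cfsg.IrrCharacter M → ℂ := fun η => if η = χ then 1 else 0 with hcdef
  have hcoef := coef_eq M L star hstar hext hcl c (fun η hη => by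
    rw [star_inner M L star hstar ((mem_excSet M L).mpr hχ) ((mem_excSet M L).mpr hη),
      Char.classInner_irrCharacter]
    simp [hcdef, eq_comm]) hχ
  refine ⟨(∑ β ∈ Finset.univ.filter (fun β => KTriv L β),
      Cfsg.classInner (fun x : M => star (χ : M → ℂ) x) (β : M → ℂ) * (β : M → ℂ) 1) -
      (Cfsg.classInner (fun x : M => star (χ : M → ℂ) x) (χ : M → ℂ) - c χ) / (χ : M → ℂ) 1 *
        (L.index : ℂ),
    fun k hk hk1 => (restrict_eq M L hcl' c _ hcoef hk hk1).trans ?_⟩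
  congr 1
  rw [Finset.sum_eq_single χ (fun η _ hne => by simp [hcdef, hne]) (fun h => absurd (by simp [hχ]) h)]
  simp [hcdef]

include hTI hC hstar hext in
open Classical in
theorem exceptional_iff (htwo : ∃ χ ∈ excSet M L, ∃ ξ ∈ excSet M L, χ ≠ ξ)
    {ψ : G → ℂ} (hψ : Cfsg.IsIrrCharacter G ψ) :
    (∃ χ ∈ excSet M L, ψ = star χ ∨ ψ = -star χ) ↔
      ∃ a : M, a ∈ L ∧ ∃ b : M, b ∈ L ∧ a ≠ 1 ∧ b ≠ 1 ∧ ψ a ≠ ψ b := by
  constructor
  · rintro ⟨χ, hχ, hcase⟩
    obtain ⟨η, hη, hne⟩ : ∃ η ∈ excSet M L, χ ≠ η := by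
      obtain ⟨p, hp, q, hq, hpq⟩ := htwo
      by_cases h : χ = p
      · exact ⟨q, hq, h ▸ hpq⟩
      · exact ⟨p, hp, h⟩
    set χ' : Cfsg.IrrCharacter M := ⟨χ, hχ.1⟩
    set η' : Cfsg.IrrCharacter M := ⟨η, hη.1⟩
    have hχ' : ¬ KTriv L χ' := (mem_excSet M L).mp hχ
    have hη' : ¬ KTriv L η' := (mem_excSet M L).mp hη
    by_contra hcon
    push Not at hcon
    obtain ⟨d, hd⟩ := star_sub_const M L star hstar hext hχ'
    obtain ⟨k0, hk0, hk0'⟩ := hχ.2
    have hk01 : k0 ≠ 1 := fun h => hk0' (by rw [h])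
    have hconst : ∀ k ∈ L, k ≠ 1 → χ k = χ k0 := by
      intro k hk hk1
      have h := hcon k hk k0 hk0 hk1 hk01
      rcases hcase with rfl | rfl
      · rw [hd k hk hk1, hd k0 hk0 hk01] at h
        exact add_right_cancel h
      · simp only [Pi.neg_apply, neg_inj] at h
        rw [hd k hk hk1, hd k0 hk0 hk01] at h
        exact add_right_cancel h
    set c0 := χ k0
    have hval : ∀ k : L, χ (k : M) = c0 + (if k = 1 then χ 1 - c0 else 0) := by
      intro k
      split_ifs with h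
      · simp [h]
      · rw [add_zero]; exact hconst k k.2 (fun h' => h (Subtype.ext h'))
    have hs1 : ∑ k : L, χ (k : M) = 0 := sum_kernel_eq_zero L hC hχ'
    have hs2 : ∑ k : L, χ (k : M) * conj (η (k : M)) = 0 := by
      have := sum_kernel_mul_conj L hC hχ' η
      rwa [Char.classInner_irr_ne hχ.1 hη.1 hne, mul_zero] at this
    have hs3 : ∑ k : L, η (k : M) = 0 := sum_kernel_eq_zero L hC hη'
    simp only [hval, Finset.sum_add_distrib, add_mul, ite_mul, zero_mul,
      Finset.sum_ite_eq', Finset.mem_univ, if_true, ← Finset.mul_sum, OneMemClass.coe_one] at hs1 hs2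
    rw [← map_sum, hs3, map_zero, mul_zero, zero_add, mul_eq_zero] at hs2
    have hc0 : χ 1 = c0 := sub_eq_zero.mp (hs2.resolve_right
      (fun h => Char.irr_one_ne_zero hη.1 (by simpa using h)))
    exact hk0' hc0.symm
  · rintro ⟨a, ha, b, hb, ha1, hb1, hab⟩
    by_contra hcon
    push Not at hcon
    obtain ⟨χ, hχ, -⟩ := htwo
    set χ' : Cfsg.IrrCharacter M := ⟨χ, hχ.1⟩
    have hzero : ∀ η : Cfsg.IrrCharacter M, ¬ KTriv L η →
        Cfsg.classInner ψ (star η) = 0 := by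
      intro η hη
      have hm := (mem_excSet M L).mpr hη
      have hgen := hstar.2.2.2 _ (Submodule.subset_span hm)
      have h1 : Cfsg.classInner (star (η : M → ℂ)) (star (η : M → ℂ)) = 1 := by
        rw [star_inner M L star hstar hm hm, Char.classInner_irr_self η.2]
      rcases Char.generalized_norm_one hgen h1 with h | h
      · exact Char.classInner_irr_ne hψ h (hcon _ hm).1
      · have h2 := Char.classInner_irr_ne hψ h (hcon _ hm).2
        rw [Char.classInner_neg_right, neg_eq_zero] at h2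
        exact h2
    have hcl := Char.irr_isClassFunction hψ
    have hcl' : Cfsg.IsClassFunction M (fun x : M => ψ x) := fun g h => hcl g h
    have hcoef := coef_eq M L star hstar hext hcl (fun _ => 0) hzero ((mem_excSet M L).mp hχ : ¬ KTriv L χ')
    apply hab
    exact (restrict_eq M L hcl' _ _ hcoef ha ha1).trans
      (Eq.trans (by simp) (restrict_eq M L hcl' _ _ hcoef hb hb1).symm)

include hTI hC hstar hext in
open Classical in
theorem exceptional_restrict_constant (htwo : ∃ χ ∈ excSet M L, ∃ ξ ∈ excSet M L, χ ≠ ξ) :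
    ∃ m : ℤ, ∀ χ ∈ excSet M L, ∀ k : M, k ∈ L → k ≠ 1 →
      star χ k - χ k = (m : ℂ) * χ 1 / (L.index : ℂ) := by
  obtain ⟨ξ, hξ, -⟩ := htwo
  obtain ⟨k0, hk0, hk0'⟩ := hξ.2
  have hk01 : k0 ≠ 1 := fun h => hk0' (by rw [h])
  set δ : ℂ := (star ξ k0 - ξ k0) / ξ 1
  have hξ1 : ξ 1 ≠ 0 := Char.irr_one_ne_zero hξ.1
  have hdelta : ∀ χ ∈ excSet M L, ∀ k : M, k ∈ L → k ≠ 1 → star χ k - χ k = δ * χ 1 := by
    intro χ hχ k hk hk1
    obtain ⟨d, hd⟩ := star_sub_const M L star hstar hext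
      ((mem_excSet M L).mp hχ : ¬ KTriv L ⟨χ, hχ.1⟩)
    have h1 := star_diff_apply M L hTI hC star hstar hext hχ hξ k0 hk0 hk01
    have h2 : star χ k - χ k = star χ k0 - χ k0 := by
      rw [show star χ k = χ k + d from hd k hk hk1, show star χ k0 = χ k0 + d from hd k0 hk0 hk01]
      ring
    rw [h2]
    simp only [δ]
    field_simp
    linear_combination h1
  have hint : ∀ χ ∈ excSet M L, ∃ d : ℤ, δ * χ 1 = (d : ℂ) := by
    intro χ hχ
    let Z : Subgroup M := Subgroup.zpowers k0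
    have hcomm : ∀ a b : Z, a * b = b * a := fun a b => mul_comm' a b
    have hZ : Z ≤ L := Subgroup.zpowers_le.mpr hk0
    have hne : (⟨k0, Subgroup.mem_zpowers k0⟩ : Z) ≠ 1 := fun h => hk01 (congrArg Subtype.val h)
    obtain ⟨θ, hθ⟩ := Char.exists_irr_ne_degree hne
    have hθ1 : (θ : Z → ℂ) 1 = 1 := Char.irr_degree_one_of_comm hcomm θ.2
    have hθne : (θ : Z → ℂ) ≠ fun _ => 1 := fun h => hθ (by rw [h])
    have hg : Cfsg.IsGeneralizedCharacter Z
        (fun z : Z => star χ ((z : M) : G) - χ (z : M)) :=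
      Char.isGeneralizedCharacter_sub
        (Char.isGeneralizedCharacter_comp (hstar.2.2.2 _ (Submodule.subset_span hχ))
          (M.subtype.comp Z.subtype))
        (Char.isGeneralizedCharacter_comp (Char.isGeneralizedCharacter_of_irr hχ.1) Z.subtype)
    set F : Z → ℂ := fun z : Z => star χ ((z : M) : G) - χ (z : M)
    have hFval : ∀ z : Z, F z = δ * χ 1 + (if z = 1 then F 1 - δ * χ 1 else 0) := by
      intro z
      split_ifs with h
      · subst h; ring
      · rw [add_zero]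
        exact hdelta χ hχ _ (hZ z.2) (fun h' => h (Subtype.ext h'))
    obtain ⟨p, hp⟩ := Char.classInner_generalized_int hg
      (Char.isGeneralizedCharacter_of_irr (Char.isIrrCharacter_const_one (G := Z)))
    obtain ⟨q, hq⟩ := Char.classInner_generalized_int hg (Char.isGeneralizedCharacter_of_irr θ.2)
    refine ⟨p - q, ?_⟩
    have hsθ : ∑ z : Z, conj ((θ : Z → ℂ) z) = 0 := by
      rw [← map_sum, Char.irr_sum_eq_zero θ.2 hθne, map_zero]
    push_cast
    rw [← hp, ← hq]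
    have e : ∀ f : Z → ℂ, f 1 = 1 → Cfsg.classInner F f =
        (Nat.card Z : ℂ)⁻¹ * (δ * χ 1 * ∑ z, conj (f z) + (F 1 - δ * χ 1)) := by
      intro f hf
      rw [Cfsg.classInner]
      congr 1
      rw [Finset.sum_congr rfl (fun z _ => by rw [hFval z])]
      simp only [add_mul, ite_mul, zero_mul, Finset.sum_add_distrib, Finset.sum_ite_eq',
        Finset.mem_univ, if_true, hf, map_one, mul_one, ← Finset.mul_sum]
    rw [e _ rfl, e _ hθ1, hsθ]
    simp only [map_one, Finset.sum_const, Finset.card_univ, nsmul_eq_mul, mul_one, mul_zero,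
      zero_add]
    rw [← Nat.card_eq_fintype_card]
    have : (Nat.card Z : ℂ) ≠ 0 := Nat.cast_ne_zero.mpr Nat.card_pos.ne'
    field_simp
    ring
  have hA : ∃ A : ℤ, δ * (Nat.card M : ℂ) = A := by
    obtain ⟨d, hd⟩ := hint ξ hξ
    obtain ⟨b, -, hb, t, ht⟩ := Char.irr_degree_dvd_card hξ.1
    exact ⟨d * t, by rw [ht, Nat.cast_mul, ← hb, ← mul_assoc, hd]; push_cast; rfl⟩
  have hB : ∃ B : ℤ, δ * ((Nat.card M : ℂ) - (L.index : ℂ)) = B := by
    choose d hd using hint
    refine ⟨∑ η ∈ Finset.univ.filter (fun η : Cfsg.IrrCharacter M => ¬ KTriv L η),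
      if h : (η : M → ℂ) ∈ excSet M L then d _ h * (((Classical.choose (Char.irr_one_pos η.2)) : ℕ) : ℤ)
      else 0, ?_⟩
    have h1 := sum_not_kTriv_mul L (1 : M)
    rw [if_pos rfl, if_pos L.one_mem] at h1
    rw [← h1, Finset.mul_sum, Int.cast_sum]
    refine Finset.sum_congr rfl fun η hη => ?_
    have hm := (mem_excSet M L).mpr (Finset.mem_filter.mp hη).2
    rw [dif_pos hm, Int.cast_mul, Int.cast_natCast, ← hd _ hm,
      ← (Classical.choose_spec (Char.irr_one_pos η.2)).2, mul_assoc]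
  obtain ⟨A, hA⟩ := hA
  obtain ⟨B, hB⟩ := hB
  refine ⟨A - B, fun χ hχ k hk hk1 => ?_⟩
  rw [hdelta χ hχ k hk hk1]
  push_cast
  rw [← hA, ← hB]
  have hidx : (L.index : ℂ) ≠ 0 := Nat.cast_ne_zero.mpr Subgroup.index_ne_zero_of_finite
  field_simp
  ring

end Cfsg.Agent.CharExt
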