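import Mathlib
import Cfsg.Agent.CharExt.Exceptional
import Cfsg.Agent.CharInd.Clifford
import Cfsg.Agent.CharInd.GenChar
import Cfsg.Agent.OddChar.CoherenceBasic

/-!
# Brauer–Suzuki: exceptional characters of an abelian TI subgroup
-/

namespace Cfsg.Agent.CharExt

universe u

open scoped ComplexConjugate
open Cfsg

variable {G : Type u} [Group G] [Fintype G] (M : Subgroup G) [Fintype M] (L : Subgroup M) [hLn : L.Normal]
  (hTI : ∀ g : G, g ∉ M → ∀ k : M, k ∈ L → ∀ k' : M, k' ∈ L → g * (k : G) * g⁻¹ = k' → k = 1)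
  (hC : ∀ k ∈ L, k ≠ 1 → Subgroup.centralizer ({k} : Set M) ≤ L)
  (hab : ∀ a ∈ L, ∀ b ∈ L, a * b = b * a)

include hC hab in
open Classical in
theorem degree_eq_index {η : Cfsg.IrrCharacter M} (hη : ¬ KTriv L η) :
    (η : M → ℂ) 1 = (L.index : ℂ) := by
  have hres : Cfsg.IsCharacter L (fun k : L => (η : M → ℂ) k) :=
    CharInd.isCharacter_res L (Char.isCharacter_of_irr η.2)
  obtain ⟨θ, n, hn, hn'⟩ := Char.exists_irr_constituent hres
    (fun h => Char.irr_one_ne_zero η.2 (congrFun h 1))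
  have hθne : (θ : L → ℂ) ≠ fun _ => 1 := by
    intro h
    rw [h, Cfsg.classInner] at hn'
    simp only [map_one, mul_one, sum_kernel_eq_zero L hC hη, mul_zero] at hn'
    exact hn.ne' (by exact_mod_cast hn'.symm)
  have hcomm : ∀ a b : L, a * b = b * a := fun a b => Subtype.ext (hab _ a.2 _ b.2)
  obtain ⟨f, hf⟩ : ∃ f : L →* ℂˣ, (θ : L → ℂ) = fun g => (f g : ℂ) :=
    (Char.exists_monoidHom_of_degree_one (Char.isCharacter_of_irr θ.2)
      (Char.irr_degree_one_of_comm hcomm θ.2)).imp fun f h => funext h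
  have hfix : ∀ x : M, CharInd.conjChar L x (θ : L → ℂ) = (θ : L → ℂ) → x ∈ L := by
    intro x hx
    by_contra hxL
    apply hθne
    let φ : L → L := fun k => ⟨x * k * x⁻¹, hLn.conj_mem _ k.2 x⟩ * k⁻¹
    have hinj : Function.Injective φ := by
      intro a b hab'
      have h1 : x * (a : M) * x⁻¹ * (a : M)⁻¹ = x * (b : M) * x⁻¹ * (b : M)⁻¹ :=
        congrArg Subtype.val hab'
      have h2 : x * ((b : M)⁻¹ * a) * x⁻¹ = (b : M)⁻¹ * a := by
        have e1 : x * (a : M) * x⁻¹ = x * (b : M) * x⁻¹ * ((b : M)⁻¹ * a) := by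
          rw [← mul_assoc, ← h1, inv_mul_cancel_right]
        calc x * ((b : M)⁻¹ * a) * x⁻¹
            = (x * (b : M) * x⁻¹)⁻¹ * (x * (a : M) * x⁻¹) := by simp [mul_assoc]
          _ = (b : M)⁻¹ * a := by rw [e1]; simp [mul_assoc]
      have hmem : (b : M)⁻¹ * a ∈ L := L.mul_mem (L.inv_mem b.2) a.2
      by_contra hne
      apply hxL
      refine hC _ hmem (fun h => hne (Subtype.ext (inv_mul_eq_one.mp h).symm)) ?_
      rw [Subgroup.mem_centralizer_singleton_iff]
      exact mul_inv_eq_iff_eq_mul.mp h2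
    funext k
    obtain ⟨a, rfl⟩ := Finite.surjective_of_injective hinj k
    have h3 : (θ : L → ℂ) ⟨x * a * x⁻¹, hLn.conj_mem _ a.2 x⟩ = (θ : L → ℂ) a := congrFun hx a
    simp only [hf] at h3 ⊢
    simp only [φ, map_mul, map_inv, Units.val_mul]
    rw [h3, ← Units.val_mul, mul_inv_cancel, Units.val_one]
  have hnorm : Cfsg.classInner (Cfsg.indFun L (θ : L → ℂ)) (Cfsg.indFun L (θ : L → ℂ)) = 1 := by
    apply mul_left_cancel₀ (Nat.cast_ne_zero.mpr (Nat.card_pos (α := L)).ne' : (Nat.card L : ℂ) ≠ 0)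
    rw [CharInd.card_mul_classInner_indFun_normal, mul_one]
    have : ∀ x : M, Cfsg.classInner (θ : L → ℂ) (CharInd.conjChar L x (θ : L → ℂ)) =
        if x ∈ L then 1 else 0 := by
      intro x
      split_ifs with h
      · rw [CharInd.conjChar_isClassFunction_mem L (Char.irr_isClassFunction θ.2) ⟨x, h⟩,
          Char.classInner_irr_self θ.2]
      · exact Char.classInner_irr_ne θ.2 (CharInd.conjChar_irr L x θ.2) (fun e => h (hfix x e.symm))
    simp only [this, Finset.sum_boole, Nat.card_eq_fintype_card, Fintype.card_subtype]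
  have hirr : Cfsg.IsIrrCharacter M (Cfsg.indFun L (θ : L → ℂ)) :=
    Char.isIrrCharacter_iff_classInner.mpr
      ⟨CharInd.isCharacter_indFun L (Char.isCharacter_of_irr θ.2), hnorm⟩
  have heq : (η : M → ℂ) = Cfsg.indFun L (θ : L → ℂ) := by
    by_contra hne
    have h0 := Char.classInner_irr_ne η.2 hirr hne
    rw [CharInd.classInner_indFun_right L _ (Char.irr_isClassFunction η.2), hn'] at h0
    exact hn.ne' (by exact_mod_cast h0)
  rw [heq, CharInd.indFun_one_apply, hf]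
  simp

include hC hab in
open Classical in
theorem card_excSet :
    (Finset.univ.filter (fun η : Cfsg.IrrCharacter M => ¬ KTriv L η)).card * L.index + 1 =
      Nat.card L := by
  have h1 := sum_not_kTriv_mul L (1 : M)
  rw [if_pos rfl, if_pos L.one_mem] at h1
  rw [Finset.sum_congr rfl (fun η hη => by
    rw [degree_eq_index M L hC hab (Finset.mem_filter.mp hη).2]), Finset.sum_const, nsmul_eq_mul,
    ← Subgroup.card_mul_index L, Nat.cast_mul] at h1
  have hidx : (L.index : ℂ) ≠ 0 := Nat.cast_ne_zero.mpr Subgroup.index_ne_zero_of_finite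
  have h2 : ((Finset.univ.filter (fun η : Cfsg.IrrCharacter M => ¬ KTriv L η)).card : ℂ) *
      L.index + 1 = Nat.card L := by
    apply mul_right_cancel₀ hidx
    linear_combination h1
  exact_mod_cast h2

include hTI hC hab in
open Classical in
/-- The Brauer–Suzuki signs and exceptional characters, as soon as there are differences. -/
theorem exists_exceptional :
    ∃ (ε : ℂ) (f : {η : Cfsg.IrrCharacter M // ¬ KTriv L η} → Cfsg.IrrCharacter G),
      ((Finset.univ.filter (fun η : Cfsg.IrrCharacter M => ¬ KTriv L η)).card = 1) ∨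
      ((ε = 1 ∨ ε = -1) ∧ Function.Injective f ∧ ∀ χ ξ,
        Cfsg.indFun M ((χ.1 : M → ℂ) - (ξ.1 : M → ℂ)) = ε • ((f χ : G → ℂ) - (f ξ : G → ℂ))) := by
  by_cases h1 : (Finset.univ.filter (fun η : Cfsg.IrrCharacter M => ¬ KTriv L η)).card = 1
  · exact ⟨1, fun _ => Char.trivialIrr G, Or.inl h1⟩
  by_cases h0 : IsEmpty {η : Cfsg.IrrCharacter M // ¬ KTriv L η}
  · exact ⟨1, isEmptyElim, Or.inr ⟨Or.inl rfl, fun a => isEmptyElim a, fun a => isEmptyElim a⟩⟩
  rw [not_isEmpty_iff] at h0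
  obtain ⟨χ₀⟩ := h0
  set T : Set G := Subtype.val '' (L : Set M)
  have hTI' : ∀ g : G, g ∉ M → ∀ t ∈ T, g * t * g⁻¹ ∈ T → t = 1 := by
    rintro g hg _ ⟨a, ha, rfl⟩ ⟨b, hb, hab'⟩
    simpa using hTI g hg a ha b hb hab'.symm
  let d : {η : Cfsg.IrrCharacter M // ¬ KTriv L η} → M → ℂ :=
    fun χ => (χ₀.1 : M → ℂ) - (χ.1 : M → ℂ)
  have hd1 : ∀ χ, d χ 1 = 0 := fun χ => by
    simp [d, degree_eq_index M L hC hab χ.2, degree_eq_index M L hC hab χ₀.2]
  have hdcl : ∀ χ, Cfsg.IsClassFunction M (d χ) := fun χ g h => by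
    simp [d, Char.irr_isClassFunction χ.1.2 g h, Char.irr_isClassFunction χ₀.1.2 g h]
  have hdT : ∀ χ, ∀ x : M, (x : G) ∉ T → d χ x = 0 := by
    intro χ x hx
    have hxL : x ∉ L := fun h => hx ⟨x, h, rfl⟩
    simp [d, eq_zero_of_notMem L hC χ.2 hxL, eq_zero_of_notMem L hC χ₀.2 hxL]
  let β : {η : Cfsg.IrrCharacter M // ¬ KTriv L η} → G → ℂ := fun χ => Cfsg.indFun M (d χ)
  have hinner : ∀ χ ξ, Cfsg.classInner (β χ) (β ξ) = Cfsg.classInner (d χ) (d ξ) :=
    fun χ ξ => CharInd.classInner_indFun_ti M T hTI' (hdcl ξ) (hdT χ) (hdT ξ) (hd1 χ)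
  have hdinner : ∀ χ ξ, χ ≠ χ₀ → ξ ≠ χ₀ →
      Cfsg.classInner (d χ) (d ξ) = if χ = ξ then 2 else 1 := by
    intro χ ξ hχ hξ
    have a1 : χ₀.1 ≠ ξ.1 := fun h => hξ (Subtype.ext h).symm
    have a2 : χ.1 ≠ χ₀.1 := fun h => hχ (Subtype.ext h)
    simp only [d, Char.classInner_sub_left, Char.classInner_sub_right,
      Char.classInner_irrCharacter]
    simp only [if_true, if_neg a1, if_neg a2]
    by_cases h : χ = ξ
    · subst h; simp; norm_num
    · have h' : χ.1 ≠ ξ.1 := fun e => h (Subtype.ext e)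
      simp [h, h']
  have hpair : ∀ χ, χ ≠ χ₀ → ∃ p q : Cfsg.IrrCharacter G, p ≠ q ∧
      β χ = (p : G → ℂ) - (q : G → ℂ) := by
    intro χ hχ
    have hgen : Cfsg.IsGeneralizedCharacter G (β χ) :=
      CharInd.genChar_indFun M (Char.isGeneralizedCharacter_sub
        (Char.isGeneralizedCharacter_of_irr χ₀.1.2) (Char.isGeneralizedCharacter_of_irr χ.1.2))
    obtain ⟨a, b, ha, hb, hab0, h1', hsum⟩ := OddChar.exists_signed_pair hgen
      (by rw [hinner, hdinner χ χ hχ hχ, if_pos rfl]) (CharInd.indFun_one_eq_zero M (hd1 χ))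
    rcases ha with ha | ha <;> rcases hb with hb | hb
    · exfalso
      obtain ⟨i, hi, hi'⟩ := Char.irr_one_pos ha
      obtain ⟨j, hj, hj'⟩ := Char.irr_one_pos hb
      have : ((i + j : ℕ) : ℂ) = 0 := by push_cast; rw [← hi', ← hj', h1']; ring
      have : i + j = 0 := by exact_mod_cast this
      omega
    · refine ⟨⟨a, ha⟩, ⟨-b, hb⟩, fun h => ?_, by rw [hsum]; simp⟩
      have he : a = -b := congrArg Subtype.val h
      have := Char.classInner_irr_self ha
      conv_lhs at this => arg 2; rw [he]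
      rw [Char.classInner_neg_right, hab0, neg_zero] at this
      exact zero_ne_one this
    · refine ⟨⟨b, hb⟩, ⟨-a, ha⟩, fun h => ?_, by rw [hsum]; simp [add_comm]⟩
      have he : b = -a := congrArg Subtype.val h
      have := Char.classInner_irr_self hb
      conv_lhs at this => arg 1; rw [he]
      rw [Char.classInner_neg_left, hab0, neg_zero] at this
      exact zero_ne_one this
    · exfalso
      obtain ⟨i, hi, hi'⟩ := Char.irr_one_pos ha
      obtain ⟨j, hj, hj'⟩ := Char.irr_one_pos hb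
      rw [Pi.neg_apply] at hi' hj'
      have : ((i + j : ℕ) : ℂ) = 0 := by push_cast; rw [← hi', ← hj', h1']; ring
      have : i + j = 0 := by exact_mod_cast this
      omega
  choose p q hpq hβ using hpair
  have hshare : ∀ χ ξ (hχ : χ ≠ χ₀) (hξ : ξ ≠ χ₀), χ ≠ ξ →
      (p χ hχ = p ξ hξ ∧ q χ hχ ≠ q ξ hξ) ∨ (p χ hχ ≠ p ξ hξ ∧ q χ hχ = q ξ hξ) := by
    intro χ ξ hχ hξ hne
    have h := hinner χ ξ
    rw [hdinner χ ξ hχ hξ, if_neg hne, hβ χ hχ, hβ ξ hξ, Char.classInner_sub_left,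
      Char.classInner_sub_right, Char.classInner_sub_right, Char.classInner_irrCharacter,
      Char.classInner_irrCharacter, Char.classInner_irrCharacter, Char.classInner_irrCharacter] at h
    have n1 := hpq χ hχ
    have n2 := hpq ξ hξ
    by_cases a : p χ hχ = p ξ hξ <;> by_cases b : q χ hχ = q ξ hξ
    · exfalso
      have c1 : p χ hχ ≠ q ξ hξ := fun e => n2 (a ▸ e)
      have c2 : q χ hχ ≠ p ξ hξ := fun e => n1 (a.trans e.symm)
      rw [if_pos a, if_pos b, if_neg c1, if_neg c2] at h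
      norm_num at h
    · exact Or.inl ⟨a, b⟩
    · exact Or.inr ⟨a, b⟩
    · exfalso
      rw [if_neg a, if_neg b] at h
      split_ifs at h <;> norm_num at h
  obtain ⟨χ₁, hχ₁⟩ : ∃ χ₁, χ₁ ≠ χ₀ := by
    by_contra hcon
    push Not at hcon
    refine h1 (Finset.card_eq_one.mpr ⟨χ₀.1, Finset.eq_singleton_iff_unique_mem.mpr
      ⟨by simp [χ₀.2], fun η hη => ?_⟩⟩)
    exact congrArg Subtype.val (hcon ⟨η, (Finset.mem_filter.mp hη).2⟩)
  have hlin : ∀ (ε : ℂ) (f : {η : Cfsg.IrrCharacter M // ¬ KTriv L η} → Cfsg.IrrCharacter G),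
      (∀ χ, χ ≠ χ₀ → β χ = ε • ((f χ₀ : G → ℂ) - (f χ : G → ℂ))) → ∀ χ ξ,
        Cfsg.indFun M ((χ.1 : M → ℂ) - (ξ.1 : M → ℂ)) = ε • ((f χ : G → ℂ) - (f ξ : G → ℂ)) := by
    intro ε f hf χ ξ
    have hb : ∀ η, β η = ε • ((f χ₀ : G → ℂ) - (f η : G → ℂ)) := by
      intro η
      by_cases h : η = χ₀
      · subst h
        simp only [β, d, sub_self, smul_zero]
        exact CharInd.indFun_zero M
      · exact hf η h
    have e : ((χ.1 : M → ℂ) - (ξ.1 : M → ℂ)) = d ξ - d χ := by simp [d]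
    rw [e, CharInd.indFun_sub]
    show β ξ - β χ = _
    rw [hb, hb, ← smul_sub, sub_sub_sub_cancel_left]
  by_cases hcase : ∀ χ (hχ : χ ≠ χ₀), p χ hχ = p χ₁ hχ₁
  · refine ⟨1, fun χ => if hχ : χ = χ₀ then p χ₁ hχ₁ else q χ hχ, Or.inr ⟨Or.inl rfl, ?_, ?_⟩⟩
    · intro χ ξ h
      by_cases hχ : χ = χ₀ <;> by_cases hξ : ξ = χ₀ <;> simp only [hχ, hξ, dite_true, dite_false] at h ⊢
      · exact absurd (((hcase ξ hξ).trans h)) (hpq ξ hξ)
      · exact absurd (((hcase χ hχ).trans h.symm)) (hpq χ hχ)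
      · by_contra hne
        rcases hshare χ ξ hχ hξ hne with ⟨-, b⟩ | ⟨a, -⟩
        · exact b h
        · exact a ((hcase χ hχ).trans (hcase ξ hξ).symm)
    · refine hlin _ _ fun χ hχ => ?_
      simp only [hχ, dite_true, dite_false, one_smul]
      rw [hβ χ hχ, hcase χ hχ]
  · push Not at hcase
    obtain ⟨χ₂, hχ₂, hne2⟩ := hcase
    have h21 : χ₂ ≠ χ₁ := fun h => hne2 (by subst h; rfl)
    have hq2 : q χ₂ hχ₂ = q χ₁ hχ₁ :=
      ((hshare χ₂ χ₁ hχ₂ hχ₁ h21).resolve_left (fun h => hne2 h.1)).2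
    have hqall : ∀ χ (hχ : χ ≠ χ₀), q χ hχ = q χ₁ hχ₁ := by
      intro χ hχ
      by_cases e1 : χ = χ₁
      · subst e1; rfl
      by_cases e2 : χ = χ₂
      · subst e2; exact hq2
      rcases hshare χ χ₁ hχ hχ₁ e1 with ⟨a, b⟩ | ⟨-, b⟩
      · exfalso
        rcases hshare χ χ₂ hχ hχ₂ e2 with ⟨a', -⟩ | ⟨-, b'⟩
        · exact hne2 (a'.symm.trans a)
        · exact b (b'.trans hq2)
      · exact b
    refine ⟨-1, fun χ => if hχ : χ = χ₀ then q χ₁ hχ₁ else p χ hχ, Or.inr ⟨Or.inr rfl, ?_, ?_⟩⟩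
    · intro χ ξ h
      by_cases hχ : χ = χ₀ <;> by_cases hξ : ξ = χ₀ <;> simp only [hχ, hξ, dite_true, dite_false] at h ⊢
      · exact absurd (h.symm.trans (hqall ξ hξ).symm) (hpq ξ hξ)
      · exact absurd (h.trans (hqall χ hχ).symm) (hpq χ hχ)
      · by_contra hne
        rcases hshare χ ξ hχ hξ hne with ⟨-, b⟩ | ⟨a, -⟩
        · exact b ((hqall χ hχ).trans (hqall ξ hξ).symm)
        · exact a h
    · refine hlin _ _ fun χ hχ => ?_
      simp only [hχ, dite_true, dite_false, neg_smul, one_smul, neg_sub]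
      rw [hβ χ hχ, hqall χ hχ]

include hC hab in
/-- A single exceptional character forces an elementary abelian kernel. -/
theorem elementary_of_card (hcard : Nat.card L = L.index + 1) :
    ∃ p : ℕ, p.Prime ∧ ∀ a ∈ L, a ^ p = 1 := by
  classical
  have hidx : 0 < L.index := Nat.pos_of_ne_zero Subgroup.index_ne_zero_of_finite
  obtain ⟨k, hk, hk1⟩ : ∃ k ∈ L, k ≠ 1 := by
    by_contra hcon
    push Not at hcon
    rw [(Subgroup.eq_bot_iff_forall L).mpr hcon, Subgroup.card_bot] at hcard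
    rw [(Subgroup.eq_bot_iff_forall L).mpr hcon] at hidx
    omega
  have hCk : Subgroup.centralizer ({k} : Set M) = L := by
    refine le_antisymm (hC k hk hk1) fun x hx => ?_
    rw [Subgroup.mem_centralizer_singleton_iff]
    exact hab x hx k hk
  have hclass := Char.card_isConj_eq_index k
  rw [hCk] at hclass
  have hclass' : (Finset.univ.filter (fun x : M => IsConj k x)).card = L.index := by
    convert hclass
  have hsub : Finset.univ.filter (fun x : M => IsConj k x) ⊆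
      (Finset.univ.filter (fun x : M => x ∈ L)).erase 1 := by
    intro x hx
    obtain ⟨c, rfl⟩ := isConj_iff.mp (Finset.mem_filter.mp hx).2
    refine Finset.mem_erase.mpr ⟨fun h => hk1 ?_, by simpa using hLn.conj_mem k hk c⟩
    simpa using h
  have heq := Finset.eq_of_subset_of_card_le hsub (by
    rw [Finset.card_erase_of_mem (by simp), ← Fintype.card_subtype, ← Nat.card_eq_fintype_card,
      hclass', hcard]
    omega)
  have hord : ∀ a ∈ L, a ≠ 1 → orderOf a = orderOf k := by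
    intro a ha ha1
    have : a ∈ (Finset.univ.filter (fun x : M => x ∈ L)).erase 1 := by simp [ha, ha1]
    rw [← heq] at this
    obtain ⟨c, rfl⟩ := isConj_iff.mp (Finset.mem_filter.mp this).2
    rw [← MulAut.conj_apply]
    exact orderOf_injective (MulAut.conj c).toMonoidHom (MulAut.conj c).injective k
  have ho1 : orderOf k ≠ 1 := fun h => hk1 (orderOf_eq_one_iff.mp h)
  obtain ⟨p, hp, hpo⟩ := Nat.exists_prime_and_dvd ho1
  have hpk : orderOf k = p := by
    have h := orderOf_pow_orderOf_div (orderOf_pos k).ne' hpo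
    rw [← h]
    refine (hord _ (L.pow_mem hk _) fun h1 => ?_).symm
    rw [h1, orderOf_one] at h
    exact hp.ne_one h.symm
  refine ⟨p, hp, fun a ha => ?_⟩
  by_cases h : a = 1
  · rw [h, one_pow]
  · rw [← hpk, ← hord a ha h, pow_orderOf_eq_one]

end Cfsg.Agent.CharExt
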