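import Cfsg.Agent.CharExt.BrauerSuzuki16.Chars
import Cfsg.Agent.Char.Integrality
import Cfsg.Agent.S0111
import Cfsg.Agent.S0849

/-!
# Perfect groups with an involution centralized by a dihedral group of order 8
-/

set_option autoImplicit false
set_option linter.style.haveILetI false
set_option linter.unusedSectionVars false

noncomputable section

namespace Cfsg.Agent.CharExt.D8

open Subgroup
open scoped ComplexConjugate
open BS16 (fz)

/-- An irreducible character takes integer values at elements of order two. -/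
theorem irr_involution_int {G : Type*} [Group G] [Finite G] {χ : G → ℂ}
    (hχ : Cfsg.IsIrrCharacter G χ) {t : G} (ht : orderOf t = 2) : ∃ z : ℤ, χ t = z := by
  obtain ⟨n, ρ, -, rfl⟩ := hχ
  obtain ⟨ε, hε, hpow⟩ := Char.exists_character_eq_sum_roots ρ t
  have h1 := hpow 1
  simp only [pow_one] at h1
  have h2 : ∀ i, ∃ z : ℤ, ε i = z := fun i => by
    have h3 := hε i
    rw [ht, sq] at h3
    rcases mul_self_eq_one_iff.1 h3 with h | h
    · exact ⟨1, by simp [h]⟩
    · exact ⟨-1, by simp [h]⟩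
  choose z hz using h2
  exact ⟨∑ i, z i, by rw [h1]; push_cast; exact Finset.sum_congr rfl fun i _ => hz i⟩

theorem order_eq {k : ℕ} {D : ℤ} (hk : Odd k) (h0 : D ≠ 0) (h1 : D + 1 ≠ 0)
    (h : (k : ℤ) * (D + 2) ^ 2 = 32 * (D * (D + 1))) : k = 21 ∨ k = 45 := by
  obtain ⟨l, hl⟩ := hk
  have hD : Even D := by
    by_contra hodd
    rw [Int.not_even_iff_odd] at hodd
    obtain ⟨j, rfl⟩ := hodd
    have h2 : Odd ((k : ℤ) * (2 * j + 1 + 2) ^ 2) :=
      ((show Odd (k : ℤ) from ⟨l, by omega⟩)).mul (Odd.pow ⟨j + 1, by ring⟩)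
    rw [h] at h2
    exact absurd (by decide : Even (32 : ℤ)) (Int.not_even_iff_odd.2 (Int.Odd.of_mul_left h2))
  obtain ⟨f, rfl⟩ := hD
  have h3 : (k : ℤ) * (f + 1) ^ 2 = 16 * (f * (2 * f + 1)) := by
    refine mul_left_cancel₀ (by norm_num : (4 : ℤ) ≠ 0) ?_
    linear_combination h
  have hc : IsCoprime ((f + 1) ^ 2) (f * (2 * f + 1)) := by
    apply IsCoprime.pow_left
    exact IsCoprime.mul_right ⟨1, -1, by ring⟩ ⟨2, -1, by ring⟩
  have h4 : (f + 1) ^ 2 ∣ 16 := hc.dvd_of_dvd_mul_right ⟨k, by linear_combination -h3⟩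
  have h5 : (f + 1) ^ 2 ≤ 16 := Int.le_of_dvd (by norm_num) h4
  have h6 : -4 ≤ f + 1 := by nlinarith
  have h7 : f + 1 ≤ 4 := by nlinarith
  have h8 : -5 ≤ f := by omega
  have h9 : f ≤ 3 := by omega
  interval_cases f
  all_goals ring_nf at h3
  all_goals omega

theorem fz_conj_inv : ∀ d : DihedralGroup 4, fz d⁻¹ = fz d := by decide +kernel

theorem fz_support : ∀ d : DihedralGroup 4, fz d ≠ 0 →
    d = DihedralGroup.r 2 ∨ d * d = DihedralGroup.r 2 := by decide +kernel

theorem center_cases : ∀ d : DihedralGroup 4, d * d = 1 → d ≠ 1 →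
    (∀ d', d * d' = d' * d) → d = DihedralGroup.r 2 := by decide +kernel

theorem r_involution : ∀ d : DihedralGroup 4, d * d = 1 → d ≠ 1 → fz d = 0 ∨ d = DihedralGroup.r 2 := by
  decide +kernel

theorem pair_sum_fz : ∑ p : DihedralGroup 4 × DihedralGroup 4,
    (if p.1 * p.1 = 1 ∧ p.1 ≠ 1 ∧ p.2 * p.2 = 1 ∧ p.2 ≠ 1 then fz (p.1 * p.2) else 0) = 32 := by
  decide +kernel

variable {G : Type*} [Group G] [Finite G] {t : G}

set_option quotPrecheck false in
local notation "T" => Subgroup.centralizer (Singleton.singleton t : Set G)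

theorem t_mem : t ∈ T := mem_centralizer_singleton_iff.2 rfl

theorem image_t (ht : orderOf t = 2) (e : ↥(T) ≃* DihedralGroup 4) :
    e ⟨t, t_mem⟩ = DihedralGroup.r 2 := by
  refine center_cases _ ?_ ?_ fun d => ?_
  · rw [← map_mul, ← e.map_one]
    exact congrArg e (Subtype.ext (by simp [← pow_two, ← ht, pow_orderOf_eq_one]))
  · intro h
    rw [← e.map_one] at h
    have h' : t = 1 := congrArg Subtype.val (e.injective h)
    rw [h', orderOf_one] at ht; omega
  · obtain ⟨x, rfl⟩ := e.surjective d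
    rw [← map_mul, ← map_mul]
    exact congrArg e (Subtype.ext (mem_centralizer_singleton_iff.1 x.2).symm)

theorem natCard_centralizer (e : ↥(T) ≃* DihedralGroup 4) : Nat.card ↥(T) = 8 := by
  rw [Nat.card_congr e.toEquiv, DihedralGroup.nat_card]

theorem exists_sylow (ht : orderOf t = 2) (e : ↥(T) ≃* DihedralGroup 4) :
    ∃ P : Sylow 2 G, (P : Subgroup G) = T := by
  haveI : Fact (Nat.Prime 2) := ⟨Nat.prime_two⟩
  have hp : IsPGroup 2 ↥(T) := IsPGroup.of_card (n := 3) (by rw [natCard_centralizer e]; norm_num)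
  obtain ⟨P, hP⟩ := hp.exists_le_sylow
  refine ⟨P, le_antisymm ?_ hP⟩
  haveI : Nontrivial ↥(P : Subgroup G) := ⟨⟨⟨t, hP t_mem⟩, 1, fun h => by
    rw [show t = 1 from congrArg Subtype.val h, orderOf_one] at ht; omega⟩⟩
  haveI : Nontrivial (Subgroup.center ↥(P : Subgroup G)) := P.isPGroup'.center_nontrivial
  obtain ⟨z, hz⟩ := exists_prime_orderOf_dvd_card' (G := ↥(Subgroup.center ↥(P : Subgroup G))) 2 (by
    obtain ⟨k, hk, hk'⟩ := (P.isPGroup'.to_subgroup _).nontrivial_iff_card.1 ‹_›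
    rw [hk']; exact dvd_pow_self 2 hk.ne')
  have hzc : ∀ w ∈ (P : Subgroup G), w * (z : G) = (z : G) * w := fun w hw =>
    congrArg Subtype.val (mem_center_iff.1 z.2 ⟨w, hw⟩)
  have hzT : (z : G) ∈ T := mem_centralizer_singleton_iff.2 (hzc t (hP t_mem)).symm
  have hz2 : orderOf (z : G) = 2 := by rw [orderOf_coe, orderOf_coe, hz]
  have hzr : e ⟨z, hzT⟩ = DihedralGroup.r 2 := by
    refine center_cases _ ?_ ?_ fun d => ?_
    · rw [← map_mul, ← e.map_one]
      exact congrArg e (Subtype.ext (by simp only [Subgroup.coe_mul, OneMemClass.coe_one]; rw [← pow_two]; exact (congrArg (fun m => ((z : ↥(P : Subgroup G)) : G) ^ m) hz2.symm).trans (pow_orderOf_eq_one _)))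
    · intro h
      rw [← e.map_one] at h
      rw [show (z : G) = 1 from congrArg Subtype.val (e.injective h), orderOf_one] at hz2
      omega
    · obtain ⟨x, rfl⟩ := e.surjective d
      rw [← map_mul, ← map_mul]
      exact congrArg e (Subtype.ext (hzc x (hP x.2)).symm)
  have hzt : (z : G) = t := congrArg Subtype.val (e.injective (hzr.trans (image_t ht e).symm))
  intro w hw
  exact mem_centralizer_singleton_iff.2 (hzt ▸ hzc w hw)

theorem isConj_involution (hperf : commutator G = ⊤) (ht : orderOf t = 2)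
    (e : ↥(T) ≃* DihedralGroup 4) {g : G} (hg : orderOf g = 2) : IsConj t g := by
  haveI : Fact (Nat.Prime 2) := ⟨Nat.prime_two⟩
  obtain ⟨P, hP⟩ := exists_sylow ht e
  have hp : IsPGroup 2 ↥(zpowers g) := IsPGroup.of_card (n := 1) (by
    rw [Nat.card_zpowers, hg, pow_one])
  obtain ⟨P', hP'⟩ := hp.exists_le_sylow
  obtain ⟨c, hc⟩ := MulAction.exists_smul_eq G P' P
  have hu : c * g * c⁻¹ ∈ T := by
    rw [← hP, ← hc, Sylow.coe_subgroup_smul]
    exact ⟨g, hP' (mem_zpowers g), rfl⟩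
  have hgc : IsConj (c * g * c⁻¹) g := (isConj_iff.2 ⟨c, rfl⟩).symm
  refine IsConj.trans ?_ hgc
  have hu2 : orderOf (c * g * c⁻¹) = 2 := by
    rw [show c * g * c⁻¹ = MulAut.conj c g from rfl, MulEquiv.orderOf_eq, hg]
  generalize hv : c * g * c⁻¹ = v at hu hu2 ⊢
  set A : Subgroup G :=
    (zpowers (e.symm (DihedralGroup.r 1))).map (T).subtype with hA
  have hAT : A ≤ T := map_subtype_le _
  have hinA : ∀ x : G, x ∈ A → orderOf x = 2 → x = t := by
    rintro x ⟨y, ⟨k, hk⟩, rfl⟩ hx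
    have hk' : e.symm (DihedralGroup.r 1) ^ k = y := hk
    have h2 : e y = DihedralGroup.r 2 := by
      have hey : e y * e y = 1 := by
        rw [← map_mul, ← e.map_one]
        exact congrArg e (Subtype.ext (by
          simp only [Subgroup.coe_mul, OneMemClass.coe_one]
          rw [← pow_two]
          exact hx ▸ pow_orderOf_eq_one _))
      have hey1 : e y ≠ 1 := fun h => by
        rw [← e.map_one] at h
        rw [e.injective h, map_one, orderOf_one] at hx; omega
      refine center_cases _ hey hey1 fun d => ?_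
      have hform : e y = DihedralGroup.r (k : ZMod 4) := by
        rw [← hk', map_zpow, e.apply_symm_apply, DihedralGroup.r_one_zpow]
      rw [hform] at hey hey1 ⊢
      revert hey hey1
      generalize (k : ZMod 4) = j
      revert d j
      decide +kernel
    exact congrArg Subtype.val (e.injective (h2.trans (image_t ht e).symm))
  by_cases hvA : v ∈ A
  · rw [hinA v hvA hu2]
  have hidx : A.relIndex T = 2 := by
    have h := (A.subgroupOf T).card_mul_index
    rw [Nat.card_congr (subgroupOfEquivOfLe hAT).toEquiv, natCard_centralizer e, hA,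
      card_map_of_injective (T).subtype_injective, Nat.card_zpowers, MulEquiv.orderOf_eq,
      DihedralGroup.orderOf_r_one] at h
    rw [relIndex, hA]
    omega
  rcases S0111.result P A (hP ▸ hAT) (hP ▸ hidx) v hu2 (hP ▸ hu) hvA with ⟨M, hMn, hM2, hvM⟩ | ⟨d, hd⟩
  · exfalso
    haveI := hMn
    haveI : Fact (Nat.Prime 2) := ⟨Nat.prime_two⟩
    have hcyc : IsCyclic (G ⧸ M) := isCyclic_of_prime_card (p := 2) (by rw [← index_eq_card, hM2])
    letI := hcyc.commGroup
    have hle : commutator G ≤ M := by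
      rw [← QuotientGroup.ker_mk' M]
      exact Abelianization.commutator_subset_ker (QuotientGroup.mk' M)
    exact hvM (hle (hperf ▸ mem_top v))
  · have ho : orderOf (d * v * d⁻¹) = 2 := by
      rw [show d * v * d⁻¹ = MulAut.conj d v from rfl, MulEquiv.orderOf_eq, hu2]
    rw [← hinA _ hd ho]
    exact (isConj_iff.2 ⟨d, rfl⟩).symm

theorem card_cases [Fintype G] (hperf : commutator G = ⊤) (ht : orderOf t = 2)
    (e : ↥(T) ≃* DihedralGroup 4) : Nat.card G = 168 ∨ Nat.card G = 360 := by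
  classical
  haveI : Fact (Nat.Prime 2) := ⟨Nat.prime_two⟩
  set φ : ↥(T) → ℂ := fun x => (fz (e x) : ℂ) with hφ
  set X : Set G := {x | ∃ h : x ∈ T, fz (e ⟨x, h⟩) ≠ 0} with hX
  have hsupp : ∀ x : ↥(T), (x : G) ∉ X → φ x = 0 := fun x hx => by
    by_contra h
    exact hx ⟨x.2, fun h0 => h (by simp [φ, h0])⟩
  have hgen : Cfsg.IsGeneralizedCharacter ↥(T) φ :=
    Char.isGeneralizedCharacter_comp BS16.fz_isGeneralized e.toMonoidHom
  have hcf := CharInd.genChar_isClassFunction hgen
  have hXP : ∀ x ∈ X, x = t ∨ x * x = t := by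
    rintro x ⟨h, hx⟩
    rcases fz_support _ hx with h' | h'
    · exact Or.inl (congrArg Subtype.val (e.injective (h'.trans (image_t ht e).symm)))
    · rw [← map_mul] at h'
      exact Or.inr (congrArg Subtype.val (e.injective (h'.trans (image_t ht e).symm)))
  have ht1 : t ≠ 1 := fun h => by rw [h, orderOf_one] at ht; omega
  have htt : t * t = 1 := by rw [← pow_two, ← ht, pow_orderOf_eq_one]
  have hTI : ∀ g : G, g ∉ T → ∀ s ∈ X, g * s * g⁻¹ ∉ X := by
    intro g hg s hs hs'
    apply hg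
    have key : g * t * g⁻¹ = t := by
      rcases hXP s hs with h | h <;> rcases hXP _ hs' with h' | h'
      · rwa [h] at h'
      · exfalso
        apply ht1
        rw [← h', h]
        calc g * t * g⁻¹ * (g * t * g⁻¹) = g * (t * t) * g⁻¹ := by group
          _ = 1 := by rw [htt]; group
      · exfalso
        apply ht1
        have h2 : t * t = g * t * g⁻¹ := by
          conv_lhs => rw [← h']
          calc g * s * g⁻¹ * (g * s * g⁻¹) = g * (s * s) * g⁻¹ := by group
            _ = g * t * g⁻¹ := by rw [h]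
        rw [htt] at h2
        calc t = g⁻¹ * (g * t * g⁻¹) * g := by group
          _ = 1 := by rw [← h2]; group
      · calc g * t * g⁻¹ = g * s * g⁻¹ * (g * s * g⁻¹) := by rw [← h]; group
          _ = t := h'
    exact mem_centralizer_singleton_iff.2 (mul_inv_eq_iff_eq_mul.1 key)
  have hTI' : ∀ g : G, g ∉ T → ∀ s ∈ X, g * s * g⁻¹ ∈ X → s = 1 := fun g hg s hs h =>
    absurd h (hTI g hg s hs)
  have hφ1 : φ 1 = 0 := by simp [φ, BS16.fz_one]
  set F := Cfsg.indFun T φ with hF
  have hcard : (Nat.card ↥(T) : ℂ) = 8 := by rw [natCard_centralizer e]; norm_num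
  have hnorm : Cfsg.classInner F F = 3 := by
    rw [hF, CharInd.classInner_indFun_ti T X hTI' hcf hsupp hsupp hφ1]
    simp only [Cfsg.classInner, φ, map_intCast]
    rw [Fintype.sum_equiv e.toEquiv (fun x => (fz (e x) : ℂ) * (fz (e x) : ℂ))
      (fun d => (fz d : ℂ) * (fz d : ℂ)) fun x => rfl, hcard,
      show (∑ d : DihedralGroup 4, (fz d : ℂ) * (fz d : ℂ)) = 24 by exact_mod_cast BS16.sum_fz_sq]
    norm_num
  have hone : Cfsg.classInner F (fun _ => 1) = 1 := by
    rw [hF, CharInd.classInner_indFun_left T φ (fun _ _ => rfl)]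
    simp only [Cfsg.classInner, φ, map_one, mul_one]
    rw [Fintype.sum_equiv e.toEquiv (fun x => (fz (e x) : ℂ))
      (fun d => (fz d : ℂ)) fun x => rfl, hcard,
      show (∑ d : DihedralGroup 4, (fz d : ℂ)) = 8 by exact_mod_cast BS16.sum_fz]
    norm_num
  let one : G → ℂ := fun _ => 1
  have hirr : Cfsg.IsIrrCharacter G one := CharInd.irr_one_const
  obtain ⟨χ₁, χ₂, h1, h2, hn1, hn2, hdeg, hv⟩ := BS16.exists_pair_of_norm_two (v := F - one)
    (CharInd.genChar_sub (CharInd.genChar_indFun T hgen) (CharInd.genChar_irr hirr))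
    (by
      rw [CharInd.classInner_sub_left, CharInd.classInner_sub_right, CharInd.classInner_sub_right,
        hnorm, hone, ← CharInd.classInner_swap F one, hone, map_one,
        CharInd.classInner_irr_self hirr]
      norm_num)
    (by rw [CharInd.classInner_sub_left, hone, CharInd.classInner_irr_self hirr, sub_self])
    (by simp [hF, CharInd.indFun_one_eq_zero T hφ1, one])
  have hval : ∀ g, F g = 1 + χ₂ g - χ₁ g := fun g => by
    have := congrFun hv g
    simp only [Pi.sub_apply, one] at this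
    linear_combination this
  -- the value at the involution
  have hFt : F t = 4 := by
    have htX : (t : G) ∈ X := ⟨t_mem, by rw [image_t ht e, BS16.fz_r_two]; norm_num⟩
    rw [hF]
    have h5 := CharInd.indFun_ti_apply T X hTI' hcf hsupp ⟨t, t_mem⟩ htX
      (fun h => ht1 (congrArg Subtype.val h))
    rw [h5]
    simp only [φ, image_t ht e, BS16.fz_r_two]
    norm_num
  -- the sum over pairs of involutions
  set A := Finset.univ.filter (fun x : G => IsConj t x) with hA
  have hAm : ∀ x, x ∈ A ↔ IsConj t x := fun x => by simp [A]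
  have hord : ∀ x : G, IsConj t x → orderOf x = 2 := fun x hx => by
    obtain ⟨c, rfl⟩ := isConj_iff.1 hx
    rw [show c * t * c⁻¹ = MulAut.conj c t from rfl, MulEquiv.orderOf_eq, ht]
  have hinvol : ∀ x : ↥(T), IsConj t (x : G) ↔ (e x * e x = 1 ∧ e x ≠ 1) := by
    intro x
    constructor
    · intro hx
      have hx2 := hord _ hx
      refine ⟨?_, fun h => ?_⟩
      · rw [← map_mul, ← e.map_one]
        exact congrArg e (Subtype.ext (by simp [← pow_two, ← hx2, pow_orderOf_eq_one]))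
      · rw [← e.map_one] at h
        rw [e.injective h, Subgroup.coe_one, orderOf_one] at hx2; omega
    · rintro ⟨hx, hx1⟩
      refine isConj_involution hperf ht e ?_
      rw [orderOf_coe, ← MulEquiv.orderOf_eq e]
      exact orderOf_eq_prime (by rw [pow_two]; exact hx) hx1
  have hsum : ∑ p ∈ A ×ˢ A, F (p.1 * p.2) = ((T).index : ℂ) * 32 := by
    have hinv : ∀ s ∈ X, s⁻¹ ∈ X := by
      rintro s ⟨h, hs⟩
      exact ⟨inv_mem h, by
        rw [show (⟨s⁻¹, inv_mem h⟩ : ↥(T)) = (⟨s, h⟩ : ↥(T))⁻¹ from rfl, map_inv, fz_conj_inv]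
        exact hs⟩
    have hconj : ∀ h ∈ T, ∀ s ∈ X, h * s * h⁻¹ ∈ X := by
      rintro h hh s ⟨hs, hs'⟩
      refine ⟨mul_mem (mul_mem hh hs) (inv_mem hh), ?_⟩
      intro h0
      apply hs'
      have h6 := hcf ⟨s, hs⟩ ⟨h, hh⟩
      simp only [φ] at h6
      exact (Int.cast_inj.1 h6).symm.trans h0
    have key := S0849.result T X (fun s hs => hs.choose) hconj hTI hinv φ hcf hsupp t t ht ht
    rw [finsum_mem_eq_finite_toFinset_sum _ (Set.toFinite _),
      finsum_mem_eq_finite_toFinset_sum _ (Set.toFinite _)] at key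
    rw [show A ×ˢ A = (Set.toFinite {p : G × G | IsConj t p.1 ∧ IsConj t p.2}).toFinset by
      ext p; simp [A], hF, key]
    congr 1
    rw [show (32 : ℂ) = ((∑ p : DihedralGroup 4 × DihedralGroup 4,
      (if p.1 * p.1 = 1 ∧ p.1 ≠ 1 ∧ p.2 * p.2 = 1 ∧ p.2 ≠ 1 then fz (p.1 * p.2) else 0) : ℤ) : ℂ)
      by rw [pair_sum_fz]; norm_num]
    rw [← Finset.sum_filter, Int.cast_sum]
    refine Finset.sum_equiv (e.toEquiv.prodCongr e.toEquiv) (fun p => ?_) fun p _ => ?_
    · simp only [Set.Finite.mem_toFinset, Set.mem_ofPred_eq, Finset.mem_filter, Finset.mem_univ,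
        true_and, hinvol]
      exact ⟨fun h => ⟨h.1.1, h.1.2, h.2.1, h.2.2⟩, fun h => ⟨⟨h.1, h.2.1⟩, h.2.2.1, h.2.2.2⟩⟩
    · show φ (p.1 * p.2) = _
      simp [φ]
  have hAcard : (A.card : ℂ) = ((T).index : ℂ) := by
    rw [← Char.card_isConj_eq_index t, hA]; congr 2; ext; simp
  set k := (T).index with hk
  have hkodd : Odd k := by
    obtain ⟨P, hP⟩ := exists_sylow ht e
    rw [hk, ← hP, Nat.odd_iff, ← Nat.two_dvd_ne_zero]
    exact P.not_dvd_index
  have hk0 : (k : ℂ) ≠ 0 := Nat.cast_ne_zero.2 (by intro h; rw [h] at hkodd; exact absurd hkodd (by decide))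
  have hsum1 : ∑ p ∈ A ×ˢ A, (1 : ℂ) = (A.card : ℂ) * A.card := by simp
  rw [Finset.sum_congr rfl (g := fun p : G × G => 1 + χ₂ (p.1 * p.2) - χ₁ (p.1 * p.2))
    fun p _ => hval (p.1 * p.2)] at hsum
  simp only [Finset.sum_sub_distrib, Finset.sum_add_distrib, hsum1,
    BS16.sum_class_pair h1 A A t t hAm hAm, BS16.sum_class_pair h2 A A t t hAm hAm, hAcard] at hsum
  -- integrality and the column relation
  obtain ⟨x₁, hx₁⟩ := irr_involution_int h1 ht
  obtain ⟨x₂, hx₂⟩ := irr_involution_int h2 ht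
  obtain ⟨d₁, hd₁, hd₁'⟩ := Char.irr_one_pos h1
  obtain ⟨d₂, hd₂, hd₂'⟩ := Char.irr_one_pos h2
  have hdd : d₁ = d₂ + 1 := by
    rw [hd₁', hd₂'] at hdeg; exact_mod_cast hdeg
  have hx : x₂ - x₁ = 3 := by
    have h := hval t
    rw [hFt, hx₁, hx₂] at h
    have : ((x₂ - x₁ : ℤ) : ℂ) = ((3 : ℤ) : ℂ) := by push_cast; linear_combination -h
    exact_mod_cast this
  have hcol : 1 + x₁ * x₁ + x₂ * x₂ ≤ 8 := by
    haveI : Finite (Cfsg.IrrCharacter G) := CharInd.finite_irrCharacter
    letI := Fintype.ofFinite (Cfsg.IrrCharacter G)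
    have h := Char.sum_irr_mul_conj t t
    rw [if_pos (IsConj.refl t), hcard] at h
    simp only [Complex.mul_conj] at h
    have h' : ∑ χ : Cfsg.IrrCharacter G, Complex.normSq ((χ : G → ℂ) t) = 8 := by exact_mod_cast h
    let c1 : Cfsg.IrrCharacter G := ⟨χ₁, h1⟩
    let c2 : Cfsg.IrrCharacter G := ⟨χ₂, h2⟩
    let c0 : Cfsg.IrrCharacter G := ⟨one, hirr⟩
    have h01 : c0 ≠ c1 := fun h0 => hn1 (congrArg Subtype.val h0).symm
    have h02 : c0 ≠ c2 := fun h0 => hn2 (congrArg Subtype.val h0).symm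
    have h12 : c1 ≠ c2 := fun h0 => by
      have := congrFun (congrArg Subtype.val h0) 1
      simp only [c1, c2, hd₁', hd₂'] at this
      have : d₁ = d₂ := by exact_mod_cast this
      omega
    have hle := Finset.sum_le_univ_sum_of_nonneg (s := {c0, c1, c2})
      (fun χ : Cfsg.IrrCharacter G => Complex.normSq_nonneg ((χ : G → ℂ) t))
    rw [h', Finset.sum_insert (by simp [h01, h02]), Finset.sum_pair h12] at hle
    simp only [c0, c1, c2, one, map_one, hx₁, hx₂] at hle
    rw [show (x₁ : ℂ) = ((x₁ : ℝ) : ℂ) by norm_num, show (x₂ : ℂ) = ((x₂ : ℝ) : ℂ) by norm_num,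
      Complex.normSq_ofReal, Complex.normSq_ofReal] at hle
    exact_mod_cast (show ((1 + x₁ * x₁ + x₂ * x₂ : ℤ) : ℝ) ≤ ((8 : ℤ) : ℝ) by push_cast; linarith)
  have hxc : x₂ = 1 ∨ x₂ = 2 := by
    have hb1 : 0 < x₂ := by nlinarith
    have hb2 : x₂ < 3 := by nlinarith
    omega
  have hG : Nat.card G = k * 8 := by
    rw [← natCard_centralizer e, hk, Subgroup.index_mul_card]
  have heq : (k : ℂ) * (d₁ * d₂ + x₂ * x₂ * d₁ - x₁ * x₁ * d₂) = 32 * (d₁ * d₂) := by
    have hd1 : (d₁ : ℂ) ≠ 0 := Nat.cast_ne_zero.2 hd₁.ne'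
    have hd2 : (d₂ : ℂ) ≠ 0 := Nat.cast_ne_zero.2 hd₂.ne'
    rw [hx₁, hx₂, hd₁', hd₂'] at hsum
    field_simp at hsum
    linear_combination hsum
  have heqZ : (k : ℤ) * (d₁ * d₂ + x₂ * x₂ * d₁ - x₁ * x₁ * d₂) = 32 * (d₁ * d₂) := by
    exact_mod_cast heq
  have hx1 : x₁ = x₂ - 3 := by omega
  subst hdd hx1
  push_cast at heqZ
  rcases hxc with rfl | rfl
  · rcases order_eq (D := -((d₂ : ℤ) + 1)) hkodd (by omega) (by omega)
      (by linear_combination heqZ) with h | h <;> omega
  · rcases order_eq (D := (d₂ : ℤ)) hkodd (by omega) (by omega)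
      (by linear_combination heqZ) with h | h <;> omega

end Cfsg.Agent.CharExt.D8
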