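import Cfsg.Agent.CharExt.Inertia
import Cfsg.Agent.CharExt.Gallagher
import Cfsg.Agent.Char.Glauberman
import Cfsg.Agent.Char.Linear
import Cfsg.Agent.Char.Kernel
import Cfsg.Agent.Coprime.Conj

/-!
# Invariant constituents under coprime operators (Isaacs 13.27, 13.28, 13.31)
-/

set_option autoImplicit false
set_option linter.style.haveILetI false
set_option linter.unusedSectionVars false

namespace Cfsg.Agent.CharExt

open Cfsg Cfsg.Agent Subgroup
open scoped Classical

universe u v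

/-- A coprime group fixes a point in a set on which an abelian group acts transitively. -/
theorem exists_fixed_abelian {Q : Type v} [Group Q] [Finite Q] {Λ : Type*} [CommGroup Λ]
    {X : Type*} [MulAction Λ X] (a : Q →* Equiv.Perm X) (b : Q →* MulAut Λ)
    (hc : ∀ (s : Q) (l : Λ) (x : X), a s (l • x) = b s l • a s x)
    (htrans : ∀ x y : X, ∃ l : Λ, l • x = y) (x₀ : X) {e : ℕ}
    (hcop : (Nat.card Q).Coprime e) (he : ∀ l : Λ, l ^ e = 1) :
    ∃ x : X, ∀ s : Q, a s x = x := by
  classical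
  letI := Fintype.ofFinite Q
  let Λ₀ := MulAction.stabilizer Λ x₀
  let π : Λ →* Λ ⧸ Λ₀ := QuotientGroup.mk' Λ₀
  have hπ : ∀ {l l' : Λ}, π l = π l' ↔ l • x₀ = l' • x₀ := by
    intro l l'
    rw [QuotientGroup.mk'_apply, QuotientGroup.mk'_apply, QuotientGroup.eq,
      MulAction.mem_stabilizer_iff, mul_smul, inv_smul_eq_iff]
    exact eq_comm
  choose d hd using fun s : Q => htrans x₀ (a s x₀)
  have hcoc : ∀ s t : Q, π (d (s * t)) = π (d s * b s (d t)) := by
    intro s t
    rw [hπ, hd, map_mul, Equiv.Perm.mul_apply, ← hd t, hc, ← hd s, ← mul_smul, mul_comm]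
  obtain ⟨m, hm⟩ : ∃ m : ℕ, ∀ l : Λ, (l ^ Nat.card Q) ^ m = l := by
    rcases Nat.eq_zero_or_pos e with rfl | hepos
    · rw [Nat.coprime_zero_right] at hcop
      exact ⟨1, fun l => by rw [hcop, pow_one, pow_one]⟩
    · rcases Nat.lt_or_ge 1 e with he1 | he1
      · obtain ⟨m, hm⟩ := Nat.exists_mul_mod_eq_one_of_coprime hcop he1
        refine ⟨m, fun l => ?_⟩
        rw [← pow_mul, ← Nat.div_add_mod (Nat.card Q * m) e, hm.2, pow_add, pow_mul, he, one_pow,
          one_mul, pow_one]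
      · have : e = 1 := by omega
        subst this
        exact ⟨0, fun l => by rw [pow_zero]; exact ((pow_one l).symm.trans (he l)).symm⟩
  set P := ∏ t : Q, d t
  refine ⟨P ^ m • x₀, fun s => ?_⟩
  rw [hc, ← hd s, ← mul_smul, ← hπ, map_mul]
  have h1 : π P = π (d s) ^ Nat.card Q * π (b s P) := by
    have h2 : π P = ∏ t : Q, π (d (s * t)) := by
      rw [map_prod]
      exact (Fintype.prod_equiv (Equiv.mulLeft s) _ _ fun t => rfl).symm
    rw [h2, map_prod, map_prod, Nat.card_eq_fintype_card, ← Finset.card_univ, ← Finset.prod_const,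
      ← Finset.prod_mul_distrib]
    exact Finset.prod_congr rfl fun t _ => by rw [hcoc, map_mul]
  rw [map_pow π P, h1, mul_pow, ← map_pow π (d s), ← map_pow π _ m, hm, ← map_pow π (b s P),
    ← map_pow (b s), mul_comm]

/-- Two characters sharing an irreducible constituent are not orthogonal. -/
theorem inner_ne_zero_of_common {H : Type u} [Group H] [Fintype H] {A B : H → ℂ}
    (hA : IsCharacter H A) (hB : IsCharacter H B) (φ : IrrCharacter H)
    (h1 : classInner A (φ : H → ℂ) ≠ 0) (h2 : classInner B (φ : H → ℂ) ≠ 0) :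
    classInner A B ≠ 0 := by
  obtain ⟨m, hm, hm'⟩ := Char.isCharacter_exists_coeff hA
  obtain ⟨k, hk, hk'⟩ := Char.isCharacter_exists_coeff hB
  have hsum : classInner A B = ((∑ ψ : IrrCharacter H, m ψ * k ψ : ℕ) : ℂ) := by
    conv_lhs => rw [hm, Char.classInner_sum_left]
    push_cast
    refine Finset.sum_congr rfl fun ψ _ => ?_
    rw [← Nat.cast_smul_eq_nsmul ℂ, Char.classInner_smul_left, ← CharInd.classInner_swap, hk',
      map_natCast]
  rw [hsum, Nat.cast_ne_zero]
  rw [hm', Nat.cast_ne_zero] at h1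
  rw [hk', Nat.cast_ne_zero] at h2
  exact fun hz => mul_ne_zero h1 h2 (Finset.sum_eq_zero_iff.1 hz φ (Finset.mem_univ _))

/-- A constituent of a constituent of a restriction is a constituent. -/
theorem inner_ne_zero_trans {H : Type u} [Group H] [Fintype H] {N : Type u} [Group N] [Fintype N]
    (f : N →* H) {A : H → ℂ} (hA : IsCharacter H A) (ψ : IrrCharacter H) (θ : IrrCharacter N)
    (h1 : classInner A (ψ : H → ℂ) ≠ 0)
    (h2 : classInner (fun n : N => (ψ : H → ℂ) (f n)) (θ : N → ℂ) ≠ 0) :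
    classInner (fun n : N => A (f n)) (θ : N → ℂ) ≠ 0 := by
  obtain ⟨m, hm, hm'⟩ := Char.isCharacter_exists_coeff hA
  choose k hk using fun β : IrrCharacter H =>
    Char.isCharacter_classInner_nat (CharInd.isCharacter_comp f (Char.isCharacter_of_irr β.2)) θ
  have hsum : classInner (fun n : N => A (f n)) (θ : N → ℂ) =
      ((∑ β : IrrCharacter H, m β * k β : ℕ) : ℂ) := by
    conv_lhs => rw [hm]
    rw [show (fun n : N => (∑ β : IrrCharacter H, m β • (β : H → ℂ)) (f n)) =
      ∑ β : IrrCharacter H, (m β : ℂ) • (fun n : N => (β : H → ℂ) (f n)) from by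
        funext n; simp [Finset.sum_apply, nsmul_eq_mul], Char.classInner_sum_left]
    push_cast
    exact Finset.sum_congr rfl fun β _ => by rw [Char.classInner_smul_left, hk]
  rw [hsum, Nat.cast_ne_zero]
  rw [hm', Nat.cast_ne_zero] at h1
  rw [hk, Nat.cast_ne_zero] at h2
  exact fun hz => mul_ne_zero h1 h2 (Finset.sum_eq_zero_iff.1 hz ψ (Finset.mem_univ _))

/-- An automorphism preserving `N`, restricted to `N`. -/
def resHomAut {S : Type v} [Group S] {G : Type u} [Group G] (φ : S →* MulAut G) (N : Subgroup G)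
    (hN : ∀ s, ∀ x ∈ N, φ s x ∈ N) : S →* MulAut N where
  toFun s :=
    { toFun := fun x => ⟨φ s x, hN s x x.2⟩
      invFun := fun x => ⟨φ s⁻¹ x, hN s⁻¹ x x.2⟩
      left_inv := fun x => Subtype.ext (by simp)
      right_inv := fun x => Subtype.ext (by simp)
      map_mul' := fun x y => Subtype.ext (map_mul (φ s) (x : G) y) }
  map_one' := by ext x; simp
  map_mul' := fun s t => by ext x; simp

@[simp] theorem resHomAut_apply {S : Type v} [Group S] {G : Type u} [Group G] (φ : S →* MulAut G)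
    (N : Subgroup G) (hN : ∀ s, ∀ x ∈ N, φ s x ∈ N) (s : S) (x : N) :
    ((resHomAut φ N hN s x : N) : G) = φ s x := rfl

/-- The abelian layer. -/
theorem exists_inv_over_abelian {S : Type v} [Group S] [Finite S] (S₀ : Subgroup S) [S₀.Normal]
    {G : Type u} [Group G] [Fintype G] (φ : S →* MulAut G) (N : Subgroup G) [N.Normal] [Fintype N]
    (hN : ∀ s, ∀ x ∈ N, φ s x ∈ N) (h0 : ∀ s ∈ S₀, ∃ x ∈ N, ∀ g, φ s g = x * g * x⁻¹)
    (hab : commutator G ≤ N) (hcop : S₀.index.Coprime N.index) (θ : IrrCharacter N)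
    (hθ : ∀ s (n : N), (θ : N → ℂ) (resHomAut φ N hN s n) = (θ : N → ℂ) n) :
    ∃ χ : IrrCharacter G, classInner (fun n : N => (χ : G → ℂ) n) (θ : N → ℂ) ≠ 0 ∧
      ∀ s g, (χ : G → ℂ) (φ s g) = (χ : G → ℂ) g := by
  classical
  let X := {χ : IrrCharacter G // classInner (fun n : N => (χ : G → ℂ) n) (θ : N → ℂ) ≠ 0}
  let Λ : Subgroup (G →* ℂˣ) :=
    { carrier := {l | ∀ n ∈ N, l n = 1}
      one_mem' := fun _ _ => rfl
      mul_mem' := fun {l l'} h h' n hn => by rw [MonoidHom.mul_apply, h n hn, h' n hn, mul_one]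
      inv_mem' := fun {l} h n hn => by rw [MonoidHom.inv_apply, h n hn, inv_one] }
  letI act : MulAction Λ X :=
    { smul := fun l x => ⟨⟨fun g => ((l.1 g : ℂˣ) : ℂ) * (x.1 : G → ℂ) g, by
          have := Char.isIrrCharacter_mul_monoidHom x.1.2 l.1
          first
            | exact this
            | (convert this using 2; first | rfl | exact mul_comm _ _)⟩, by
        have e : (fun n : N => ((l.1 n : ℂˣ) : ℂ) * (x.1 : G → ℂ) n) =
            fun n : N => (x.1 : G → ℂ) n := by
          funext n; simp [l.2 n n.2]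
        show classInner (fun n : N => ((l.1 n : ℂˣ) : ℂ) * (x.1 : G → ℂ) n) _ ≠ 0
        rw [e]; exact x.2⟩
      one_smul := fun x => Subtype.ext (Subtype.ext (funext fun g => by
        show (((1 : G →* ℂˣ) g : ℂˣ) : ℂ) * _ = _
        simp))
      mul_smul := fun l l' x => Subtype.ext (Subtype.ext (funext fun g => by
        show (((l.1 * l'.1) g : ℂˣ) : ℂ) * _ = (l.1 g : ℂ) * ((l'.1 g : ℂ) * _)
        simp [mul_assoc])) }
  have hsmul : ∀ (l : Λ) (x : X) (g : G),
      ((l • x).1 : G → ℂ) g = ((l.1 g : ℂˣ) : ℂ) * (x.1 : G → ℂ) g := fun _ _ _ => rfl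
  let af : S → X → X := fun s x => ⟨⟨_, Char.isIrrCharacter_comp_mulEquiv x.1.2 (φ s⁻¹)⟩, by
    show classInner (fun n : N => (x.1 : G → ℂ) (φ s⁻¹ n)) (θ : N → ℂ) ≠ 0
    have e := Glauberman.classInner_comp_equiv (resHomAut φ N hN s⁻¹)
      (fun n : N => (x.1 : G → ℂ) n) (θ : N → ℂ)
    rw [show (fun n : N => (θ : N → ℂ) (resHomAut φ N hN s⁻¹ n)) = (θ : N → ℂ) from
      funext (hθ s⁻¹)] at e
    exact fun hz => x.2 (e.symm.trans hz)⟩
  have hafmul : ∀ s t x, af (s * t) x = af s (af t x) := fun s t x =>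
    Subtype.ext (Subtype.ext (funext fun g => by
      show (x.1 : G → ℂ) (φ (s * t)⁻¹ g) = (x.1 : G → ℂ) (φ t⁻¹ (φ s⁻¹ g))
      rw [mul_inv_rev, map_mul, MulAut.mul_apply]))
  have hafone : ∀ x, af 1 x = x := fun x => Subtype.ext (Subtype.ext (funext fun g => by
    show (x.1 : G → ℂ) (φ 1⁻¹ g) = _
    simp))
  let a₀ : S →* Equiv.Perm X :=
    { toFun := fun s => ⟨af s, af s⁻¹, fun x => by rw [← hafmul, inv_mul_cancel, hafone],
        fun x => by rw [← hafmul, mul_inv_cancel, hafone]⟩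
      map_one' := Equiv.ext hafone
      map_mul' := fun s t => Equiv.ext (hafmul s t) }
  let bf : S → Λ → Λ := fun s l => ⟨l.1.comp (φ s⁻¹).toMonoidHom, fun n hn => l.2 _ (hN _ n hn)⟩
  have hbfmul : ∀ s t l, bf (s * t) l = bf s (bf t l) := fun s t l =>
    Subtype.ext (MonoidHom.ext fun g => by
      show l.1 (φ (s * t)⁻¹ g) = l.1 (φ t⁻¹ (φ s⁻¹ g))
      rw [mul_inv_rev, map_mul, MulAut.mul_apply])
  have hbfone : ∀ l, bf 1 l = l := fun l => Subtype.ext (MonoidHom.ext fun g => by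
    show l.1 (φ 1⁻¹ g) = _
    simp)
  let b₀ : S →* MulAut Λ :=
    { toFun := fun s =>
        { toFun := bf s
          invFun := bf s⁻¹
          left_inv := fun l => by rw [← hbfmul, inv_mul_cancel, hbfone]
          right_inv := fun l => by rw [← hbfmul, mul_inv_cancel, hbfone]
          map_mul' := fun l l' => Subtype.ext (MonoidHom.ext fun g => rfl) }
      map_one' := MulEquiv.ext hbfone
      map_mul' := fun s t => MulEquiv.ext (hbfmul s t) }
  have ha0 : S₀ ≤ a₀.ker := fun s hs => by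
    obtain ⟨x, -, hx⟩ := h0 s⁻¹ (inv_mem hs)
    refine MonoidHom.mem_ker.2 (Equiv.ext fun y => Subtype.ext (Subtype.ext (funext fun g => ?_)))
    show (y.1 : G → ℂ) (φ s⁻¹ g) = (y.1 : G → ℂ) g
    rw [hx]
    exact Char.irr_isClassFunction y.1.2 g x
  have hb0 : S₀ ≤ b₀.ker := fun s hs => by
    obtain ⟨x, -, hx⟩ := h0 s⁻¹ (inv_mem hs)
    refine MonoidHom.mem_ker.2 (MulEquiv.ext fun l => Subtype.ext (MonoidHom.ext fun g => ?_))
    show l.1 (φ s⁻¹ g) = l.1 g
    rw [hx, map_mul, map_mul, map_inv, mul_comm (l.1 x), mul_inv_cancel_right]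
  have htrans : ∀ x y : X, ∃ l : Λ, l • x = y := by
    intro x y
    have hech : IsCharacter G (indFun N fun _ => (1 : ℂ)) :=
      CharInd.isCharacter_indFun N (θ := fun _ => (1 : ℂ)) Char.isCharacter_const_one
    obtain ⟨m, hm, hm'⟩ := Char.isCharacter_exists_coeff hech
    have h2 : classInner ((indFun N fun _ => (1 : ℂ)) * (x.1 : G → ℂ)) (y.1 : G → ℂ) ≠ 0 := by
      rw [← CharInd.indFun_mul_res N _ (Char.irr_isClassFunction x.1.2),
        CharInd.classInner_indFun_left N _ (Char.irr_isClassFunction y.1.2)]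
      simp only [one_mul]
      exact inner_ne_zero_of_common (CharInd.isCharacter_res N (Char.isCharacter_of_irr x.1.2))
        (CharInd.isCharacter_res N (Char.isCharacter_of_irr y.1.2)) θ x.2 y.2
    rw [hm, Finset.sum_mul, Char.classInner_sum_left] at h2
    obtain ⟨β, -, hβ⟩ := Finset.exists_ne_zero_of_sum_ne_zero h2
    rw [← Nat.cast_smul_eq_nsmul ℂ, smul_mul_assoc, Char.classInner_smul_left, mul_ne_zero_iff] at hβ
    have hinv := inv_of_constituent N β.2 (by rw [hm']; exact hβ.1)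
    obtain ⟨β', hβ', hββ⟩ := Char.irr_exists_descend β.2 N fun n hn => by
      have := hinv ⟨n, hn⟩ 1
      rwa [mul_one] at this
    have hQc : ∀ p q : G ⧸ N, p * q = q * p := by
      intro p q
      obtain ⟨p, rfl⟩ := QuotientGroup.mk'_surjective N p
      obtain ⟨q, rfl⟩ := QuotientGroup.mk'_surjective N q
      rw [← map_mul, ← map_mul, QuotientGroup.mk'_apply, QuotientGroup.mk'_apply, QuotientGroup.eq]
      have := hab (Subgroup.commutator_mem_commutator (Subgroup.mem_top q⁻¹) (Subgroup.mem_top p⁻¹))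
      simpa [commutatorElement_def, mul_assoc] using this
    obtain ⟨f, hf⟩ := Char.irr_exists_monoidHom_of_comm hQc hβ'
    let l : Λ := ⟨f.comp (QuotientGroup.mk' N), fun n hn => by
      rw [MonoidHom.comp_apply, QuotientGroup.mk'_apply, (QuotientGroup.eq_one_iff n).2 hn, map_one]⟩
    refine ⟨l, Subtype.ext (Subtype.ext ?_)⟩
    have hlx : ((l • x).1 : G → ℂ) = (β : G → ℂ) * (x.1 : G → ℂ) := funext fun g => by
      rw [hsmul, Pi.mul_apply, hββ, hf]; rfl
    by_contra hne
    exact hβ.2 (Char.classInner_irr_ne (hlx ▸ (l • x).1.2) y.1.2 (hlx ▸ hne))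
  obtain ⟨x₀⟩ : Nonempty X := by
    have hne0 : indFun N (θ : N → ℂ) ≠ 0 := fun h => by
      have h1 := congrFun h 1
      rw [CharInd.indFun_one_apply] at h1
      exact mul_ne_zero (Nat.cast_ne_zero.2 Subgroup.index_ne_zero_of_finite)
        (Char.irr_one_ne_zero θ.2) h1
    obtain ⟨ψ, n, hn, hψ⟩ := Char.exists_irr_constituent
      (CharInd.isCharacter_indFun N (Char.isCharacter_of_irr θ.2)) hne0
    refine ⟨⟨ψ, fun hz => ?_⟩⟩
    rw [CharInd.classInner_indFun_left N _ (Char.irr_isClassFunction ψ.2),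
      ← CharInd.classInner_swap, hz, map_zero, eq_comm, Nat.cast_eq_zero] at hψ
    omega
  haveI : Finite (S ⧸ S₀) := Finite.of_surjective _ (QuotientGroup.mk'_surjective S₀)
  obtain ⟨χ, hχ⟩ := exists_fixed_abelian (QuotientGroup.lift S₀ a₀ ha0) (QuotientGroup.lift S₀ b₀ hb0)
    (fun q l x => by
      induction q using QuotientGroup.induction_on with
      | _ s =>
        exact Subtype.ext (Subtype.ext (funext fun g => rfl)))
    htrans x₀ (e := N.index) hcop (fun l => Subtype.ext (MonoidHom.ext fun g => by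
      show (l.1 ^ N.index) g = 1
      rw [MonoidHom.pow_apply, ← map_pow]
      exact l.2 _ (Subgroup.pow_index_mem N g)))
  refine ⟨χ.1, χ.2, fun s g => ?_⟩
  have := congrFun (congrArg (fun x : X => (x.1 : G → ℂ)) (hχ (QuotientGroup.mk' S₀ s⁻¹))) g
  change (χ.1 : G → ℂ) (φ s⁻¹⁻¹ g) = _ at this
  rwa [inv_inv] at this

theorem exists_inv_over_solvable_aux {S : Type v} [Group S] [Finite S] (S₀ : Subgroup S) [S₀.Normal]
    (k : ℕ) : ∀ (G : Type u) [Group G] [Fintype G] (φ : S →* MulAut G) (N : Subgroup G) [N.Normal]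
    [Fintype N] (hN : ∀ s, ∀ x ∈ N, φ s x ∈ N), Nat.card G ≤ k →
    (∀ s ∈ S₀, ∃ x ∈ N, ∀ g, φ s g = x * g * x⁻¹) → Group.IsSolvable (G ⧸ N) →
    S₀.index.Coprime N.index → ∀ (θ : IrrCharacter N),
    (∀ s (n : N), (θ : N → ℂ) (resHomAut φ N hN s n) = (θ : N → ℂ) n) →
    ∃ χ : IrrCharacter G, classInner (fun n : N => (χ : G → ℂ) n) (θ : N → ℂ) ≠ 0 ∧
      ∀ s g, (χ : G → ℂ) (φ s g) = (χ : G → ℂ) g := by
  induction k using Nat.strong_induction_on with
  | _ k ih =>
  intro G _ _ φ N _ _ hN hk h0 hsolv hcop θ hθ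
  classical
  by_cases hab : commutator G ≤ N
  · exact exists_inv_over_abelian S₀ φ N hN h0 hab hcop θ hθ
  set M := commutator G ⊔ N with hM
  have hMne : M ≠ ⊤ := by
    intro htop
    haveI := hsolv
    have hmap : commutator (G ⧸ N) = ⊤ := by
      rw [eq_top_iff]
      intro q _
      have hle : (commutator G).map (QuotientGroup.mk' N) ≤ commutator (G ⧸ N) := by
        rw [_root_.commutator_def, _root_.commutator_def, Subgroup.map_commutator]
        exact Subgroup.commutator_mono le_top le_top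
      obtain ⟨g, rfl⟩ := QuotientGroup.mk'_surjective N q
      have hg : g ∈ commutator G ⊔ N := by rw [← hM, htop]; exact Subgroup.mem_top g
      rw [← SetLike.mem_coe, Subgroup.normal_mul] at hg
      obtain ⟨c, hc, n, hn, rfl⟩ := Set.mem_mul.1 hg
      refine hle ⟨c, hc, ?_⟩
      rw [QuotientGroup.mk'_apply, QuotientGroup.mk'_apply, QuotientGroup.eq]
      simpa using hn
    refine hab fun g _ => ?_
    rcases subsingleton_or_nontrivial (G ⧸ N) with h | h
    · exact (QuotientGroup.eq_one_iff g).1 (Subsingleton.elim _ _)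
    · exact absurd hmap (Group.IsSolvable.commutator_lt_top_of_nontrivial (G ⧸ N)).ne
  have hNM : N ≤ M := le_sup_right
  have hMφ : ∀ s, ∀ x ∈ M, φ s x ∈ M := by
    intro s x hx
    rw [hM, ← SetLike.mem_coe, Subgroup.normal_mul] at hx
    obtain ⟨c, hc, n, hn, rfl⟩ := Set.mem_mul.1 hx
    rw [map_mul]
    refine Subgroup.mul_mem_sup ?_ (hN s n hn)
    have h1 : (commutator G).map (φ s).toMonoidHom ≤ commutator G := by
      rw [_root_.commutator_def, Subgroup.map_commutator]
      exact Subgroup.commutator_mono le_top le_top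
    exact h1 ⟨c, hc, rfl⟩
  haveI : M.Normal := Subgroup.sup_normal _ _
  set N' := N.subgroupOf M with hN'def
  letI := Fintype.ofFinite M
  letI := Fintype.ofFinite N'
  let φM := resHomAut φ M hMφ
  have hN' : ∀ s, ∀ x ∈ N', φM s x ∈ N' := fun s x hx => hN s _ hx
  let e : N' ≃* N := Subgroup.subgroupOfEquivOfLe hNM
  let θ' : IrrCharacter N' := ⟨_, Char.isIrrCharacter_comp_mulEquiv θ.2 e⟩
  have hlt : Nat.card M < k := by
    refine lt_of_lt_of_le ?_ hk
    exact lt_of_le_of_ne (Subgroup.card_le_card_group M) fun h =>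
      hMne (Subgroup.eq_top_of_card_eq M h)
  have hsolvM : Group.IsSolvable (M ⧸ N') := by
    haveI := hsolv
    refine Group.isSolvable_of_isSolvable_injective
      (f := QuotientGroup.map N' N M.subtype (by rw [hN'def]; exact le_of_eq rfl)) ?_
    rw [injective_iff_map_eq_one]
    intro q hq
    induction q using QuotientGroup.induction_on with
    | _ x =>
      rw [QuotientGroup.map_mk, QuotientGroup.eq_one_iff] at hq
      exact (QuotientGroup.eq_one_iff _).2 hq
  obtain ⟨ψ, hψ1, hψ2⟩ := ih _ hlt M φM N' hN' le_rfl (fun s hs => by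
      obtain ⟨x, hx, hxg⟩ := h0 s hs
      exact ⟨⟨x, hNM hx⟩, hx, fun g => Subtype.ext (hxg g)⟩) hsolvM
    (hcop.coprime_dvd_right (by
      show N.relIndex M ∣ N.index
      exact Dvd.intro _ (Subgroup.relIndex_mul_index hNM))) θ' (fun s n => by
      show (θ : N → ℂ) (e _) = (θ : N → ℂ) (e n)
      exact hθ s (e n))
  obtain ⟨χ, hχ1, hχ2⟩ := exists_inv_over_abelian S₀ φ M hMφ (fun s hs => by
      obtain ⟨x, hx, hxg⟩ := h0 s hs
      exact ⟨x, hNM hx, hxg⟩) le_sup_left
    (hcop.coprime_dvd_right (Subgroup.index_dvd_of_le hNM)) ψ hψ2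
  refine ⟨χ, fun hz => inner_ne_zero_trans (H := M) (N := N') N'.subtype
    (CharInd.isCharacter_res M (Char.isCharacter_of_irr χ.2)) ψ θ' hχ1 hψ1 ?_, hχ2⟩
  rw [← hz]
  unfold classInner
  rw [Nat.card_congr e.toEquiv]
  congr 1
  exact Fintype.sum_equiv e.toEquiv _ _ fun x => rfl

/-- Isaacs (13.28): an invariant character lies under an invariant one, for solvable coprime
quotients. -/
theorem exists_inv_over_solvable {S : Type v} [Group S] [Finite S] (S₀ : Subgroup S) [S₀.Normal]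
    {G : Type u} [Group G] [Fintype G] (φ : S →* MulAut G) (N : Subgroup G) [N.Normal] [Fintype N]
    (hN : ∀ s, ∀ x ∈ N, φ s x ∈ N) (h0 : ∀ s ∈ S₀, ∃ x ∈ N, ∀ g, φ s g = x * g * x⁻¹)
    (hsolv : Group.IsSolvable (G ⧸ N)) (hcop : S₀.index.Coprime N.index) (θ : IrrCharacter N)
    (hθ : ∀ s (n : N), (θ : N → ℂ) (resHomAut φ N hN s n) = (θ : N → ℂ) n) :
    ∃ χ : IrrCharacter G, classInner (fun n : N => (χ : G → ℂ) n) (θ : N → ℂ) ≠ 0 ∧
      ∀ s g, (χ : G → ℂ) (φ s g) = (χ : G → ℂ) g :=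
  exists_inv_over_solvable_aux S₀ _ G φ N hN le_rfl h0 hsolv hcop θ hθ

/-- Isaacs (13.27): an invariant character lies over an invariant one. -/
theorem exists_inv_under {T : Type u} [Group T] [Fintype T] (K N A : Subgroup T) [K.Normal]
    [N.Normal] [Fintype K] [Fintype N] (hNK : N ≤ K) (htop : A ⊔ K = ⊤)
    (hcop : (Nat.card (A.map (QuotientGroup.mk' N))).Coprime
      (Nat.card (K.map (QuotientGroup.mk' N))))
    (hs : Group.IsSolvable A ∨ Group.IsSolvable (K ⧸ N.subgroupOf K))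
    (χ : IrrCharacter K) (hinv : ∀ a ∈ A, CharInd.conjChar K a (χ : K → ℂ) = (χ : K → ℂ)) :
    ∃ θ : IrrCharacter N, classInner (fun n : N => (χ : K → ℂ) ⟨n, hNK n.2⟩) (θ : N → ℂ) ≠ 0 ∧
      ∀ a ∈ A, CharInd.conjChar N a (θ : N → ℂ) = (θ : N → ℂ) := by
  classical
  let r : (K → ℂ) → (N → ℂ) := fun f n => f ⟨n, hNK n.2⟩
  have hχT : ∀ x : T, CharInd.conjChar K x (χ : K → ℂ) = (χ : K → ℂ) := fun x => by
    obtain ⟨a, ha, k, hk, rfl⟩ : ∃ a ∈ A, ∃ k ∈ K, a * k = x := by
      have hx : x ∈ A ⊔ K := htop ▸ Subgroup.mem_top x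
      rw [← SetLike.mem_coe, Subgroup.mul_normal] at hx
      exact Set.mem_mul.1 hx
    rw [CharInd.conjChar_mul, hinv a ha,
      CharInd.conjChar_isClassFunction_mem K (Char.irr_isClassFunction χ.2) ⟨k, hk⟩]
  have hrch : IsCharacter N (r χ) :=
    CharInd.isCharacter_comp (Subgroup.inclusion hNK) (Char.isCharacter_of_irr χ.2)
  obtain ⟨θ₀, n₀, hn₀, hθ₀⟩ := Char.exists_irr_constituent hrch fun h =>
    Char.irr_one_ne_zero χ.2 (congrFun h 1)
  have hθ₀ne : classInner (r χ) (θ₀ : N → ℂ) ≠ 0 := by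
    rw [hθ₀]; exact Nat.cast_ne_zero.2 hn₀.ne'
  have hconj : ∀ x : T, classInner (r χ) (CharInd.conjChar N x (θ₀ : N → ℂ)) ≠ 0 := by
    intro x
    have e : r χ = CharInd.conjChar N x (r χ) := by
      conv_lhs => rw [← hχT x]
      rfl
    rw [e, CharInd.classInner_conjChar]
    exact hθ₀ne
  -- the stabiliser of a constituent
  set I := inertia N (θ₀ : N → ℂ) with hI
  have hNI : N ≤ I := le_inertia N (Char.irr_isClassFunction θ₀.2)
  have hIK : I ⊔ K = ⊤ := by
    refine eq_top_iff.2 fun x _ => ?_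
    let N' := N.subgroupOf K
    letI := Fintype.ofFinite N'
    let e : N' ≃* N := Subgroup.subgroupOfEquivOfLe hNK
    have he : ∀ f : N → ℂ, classInner (fun n : N' => (χ : K → ℂ) n) (fun n => f (e n)) =
        classInner (r χ) f := by
      intro f
      unfold classInner
      rw [Nat.card_congr e.toEquiv]
      congr 1
      exact Fintype.sum_equiv e.toEquiv _ _ fun y => rfl
    obtain ⟨k, hk⟩ := (CharInd.mem_conjClass N').1 (mem_conjClass_of_constituent N' χ.2
      (φ := fun n => (θ₀ : N → ℂ) (e n)) (ξ := fun n => CharInd.conjChar N x (θ₀ : N → ℂ) (e n))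
      (Char.isIrrCharacter_comp_mulEquiv θ₀.2 e)
      (Char.isIrrCharacter_comp_mulEquiv (CharInd.conjChar_irr N x θ₀.2) e)
      (by rw [he]; exact hθ₀ne) (by rw [he]; exact hconj x))
    have hxk : x * (k : T)⁻¹ ∈ I := by
      rw [hI, mem_inertia, CharInd.conjChar_mul]
      funext n
      have h1 := congrFun hk (e.symm ⟨(k : T)⁻¹ * n * (k : T)⁻¹⁻¹,
        (inferInstance : N.Normal).conj_mem _ n.2 _⟩)
      rw [MulEquiv.apply_symm_apply] at h1
      rw [CharInd.conjChar_apply N (k : T)⁻¹, h1, CharInd.conjChar_apply]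
      refine congrArg _ (Subtype.ext ?_)
      show (k : T) * ((k : T)⁻¹ * n * (k : T)⁻¹⁻¹) * (k : T)⁻¹ = n
      group
    have : x = x * (k : T)⁻¹ * k := by group
    rw [this]
    exact Subgroup.mul_mem_sup hxk k.2
  set π := QuotientGroup.mk' N
  have hsolv' : Group.IsSolvable (A.map π) ∨ Group.IsSolvable (K.map π) := by
    rcases hs with h | h
    · haveI := h
      exact Or.inl (Group.isSolvable_of_surjective (π.subgroupMap_surjective A))
    · haveI := h
      refine Or.inr (Group.isSolvable_of_surjective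
        (f := QuotientGroup.lift (N.subgroupOf K) (π.subgroupMap K) fun y hy => ?_) fun q => ?_)
      · exact MonoidHom.mem_ker.2 (Subtype.ext ((QuotientGroup.eq_one_iff (y : T)).2 hy))
      · obtain ⟨y, rfl⟩ := π.subgroupMap_surjective K q
        exact ⟨QuotientGroup.mk y, rfl⟩
  have htop' : A.map π ⊔ K.map π = ⊤ := by
    rw [← Subgroup.map_sup, htop, Subgroup.map_top_of_surjective π (QuotientGroup.mk'_surjective N)]
  obtain ⟨kq, hkq, hle⟩ := Coprime.exists_le_conj (A := A.map π) (K := K.map π) (S := I.map π)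
    Subgroup.le_normalizer_of_normal hcop hsolv' (htop' ▸ le_top) (by
      rw [htop', ← Subgroup.map_sup, hIK,
        Subgroup.map_top_of_surjective π (QuotientGroup.mk'_surjective N)])
  obtain ⟨k, hk, rfl⟩ := hkq
  refine ⟨⟨CharInd.conjChar N k⁻¹ (θ₀ : N → ℂ), CharInd.conjChar_irr N _ θ₀.2⟩, hconj _,
    fun a ha => ?_⟩
  have h1 := Subgroup.mem_pointwise_smul_iff_inv_smul_mem.1 (hle ⟨a, ha, rfl⟩)
  obtain ⟨i, hi, hie⟩ := h1
  have hmem : k⁻¹ * a * k ∈ I := by
    have h2 : π i = π (k⁻¹ * a * k) := by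
      rw [hie]; simp [MulAut.smul_def, map_mul, mul_assoc]
    rw [QuotientGroup.mk'_apply, QuotientGroup.mk'_apply, QuotientGroup.eq] at h2
    simpa using mul_mem hi (hNI h2)
  show CharInd.conjChar N a (CharInd.conjChar N k⁻¹ (θ₀ : N → ℂ)) = _
  rw [← CharInd.conjChar_mul, show k⁻¹ * a = k⁻¹ * a * k * k⁻¹ by group, CharInd.conjChar_mul,
    mem_inertia.1 hmem]

end Cfsg.Agent.CharExt
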