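import Cfsg.Agent.CharExt.InvConstituent
import Cfsg.Agent.Char.GlaubermanConstituent
import Cfsg.Agent.CharDeep.Cover
import Cfsg.Agent.CharDeep.Mult

/-!
# Invariant characters over an invariant character in a coprime layer (Isaacs 13.31)
-/

set_option autoImplicit false
set_option linter.style.haveILetI false
set_option linter.unusedSectionVars false

namespace Cfsg.Agent.CharExt

open Cfsg Cfsg.Agent Subgroup
open scoped Classical

universe u

/-- An irreducible character is a homomorphism times itself on a central subgroup. -/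
theorem exists_central_hom {H : Type u} [Group H] [Finite H] {χ : H → ℂ}
    (hχ : IsIrrCharacter H χ) (N : Subgroup H) (hN : N ≤ center H) :
    ∃ c : N →* ℂˣ, ∀ (n : N) (g : H), χ ((n : H) * g) = (c n : ℂ) * χ g := by
  choose ω hpow h1 hmul using fun n : N => Char.irr_mul_center hχ (hN n.2)
  have hne : ∀ n, ω n ≠ 0 := fun n h => by
    have := hpow n
    rw [h, zero_pow (orderOf_pos (n : H)).ne'] at this
    exact zero_ne_one this
  refine ⟨MonoidHom.mk' (fun n => Units.mk0 (ω n) (hne n)) fun a b => Units.ext ?_, hmul⟩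
  refine mul_right_cancel₀ (Char.irr_one_ne_zero hχ) ?_
  simp only [Units.val_mk0, Units.val_mul]
  rw [← h1, Subgroup.coe_mul, hmul, h1, mul_assoc]

/-- The central scalar of a constituent. -/
theorem central_hom_eq_of_constituent {H : Type u} [Group H] [Fintype H] {χ : H → ℂ}
    (N : Subgroup H) [Fintype N] {c : N →* ℂˣ}
    (hc : ∀ (n : N) (g : H), χ ((n : H) * g) = (c n : ℂ) * χ g) {μ : N →* ℂˣ}
    (h : classInner (fun n : N => χ n) (fun n => (μ n : ℂ)) ≠ 0) : c = μ := by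
  by_contra hne
  apply h
  have e : (fun n : N => χ n) = χ 1 • fun n => (c n : ℂ) := by
    funext n
    rw [Pi.smul_apply, smul_eq_mul, mul_comm (χ 1), ← hc, mul_one]
  rw [e, CharInd.classInner_smul_left, Char.classInner_irr_ne (Char.isIrrCharacter_monoidHom c)
    (Char.isIrrCharacter_monoidHom μ) (fun he => hne (Char.monoidHom_coe_injective he)), mul_zero]

/-- A central subgroup splits into the part for the primes of `n` and its coprime part. -/
theorem exists_central_part {X : Type u} [Group X] [Finite X] (Z : Subgroup X)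
    (hZ : Z ≤ center X) (n : ℕ) :
    ∃ T : Subgroup X, T ≤ Z ∧ (∀ q : ℕ, q.Prime → q ∣ Nat.card T → q ∣ n) ∧
      (T.relIndex Z).Coprime n := by
  letI : CommGroup Z :=
    { (inferInstance : Group Z) with
      mul_comm := fun a b => Subtype.ext ((mem_center_iff.1 (hZ a.2) b).symm) }
  set N := Nat.card Z with hN
  have hNpos : 0 < N := Nat.card_pos
  set a := Nat.gcd N (n ^ N) with ha
  obtain ⟨b, hb⟩ : a ∣ N := Nat.gcd_dvd_left _ _
  have hbn : b.Coprime n := by
    refine Nat.coprime_of_dvd fun q hq hqb hqn => ?_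
    have hd : q * a ∣ N := by rw [hb, mul_comm a]; exact mul_dvd_mul_right hqb a
    have hd' : q * a ∣ n ^ N := by
      have hk : q * a ∣ n ^ (N + 1) := by
        rw [pow_succ', ha]; exact mul_dvd_mul hqn (Nat.gcd_dvd_right _ _)
      refine (Nat.dvd_iff_prime_pow_dvd_dvd _ _).2 fun p k hp hpk => ?_
      rcases Nat.eq_zero_or_pos k with rfl | hk0
      · simp
      have hpn : p ∣ n := hp.dvd_of_dvd_pow (((dvd_pow_self p hk0.ne').trans hpk).trans hk)
      have hkN : k ≤ N :=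
        (Nat.lt_pow_self hp.one_lt).le.trans ((Nat.le_of_dvd hNpos (hpk.trans hd)))
      exact (pow_dvd_pow_of_dvd hpn k).trans (pow_dvd_pow n hkN)
    have hle : q * a ∣ a := by
      conv_rhs => rw [ha]
      exact Nat.dvd_gcd hd hd'
    have hapos : 0 < a := Nat.pos_of_dvd_of_pos (Nat.gcd_dvd_left _ _) hNpos
    have := Nat.le_of_dvd hapos hle
    nlinarith [hq.two_le]
  let P : Z →* Z := powMonoidHom a
  refine ⟨P.ker.map Z.subtype, map_subtype_le _, fun q hq hqT => ?_, ?_⟩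
  · rw [Subgroup.card_map_of_injective Z.subtype_injective] at hqT
    haveI := Fact.mk hq
    obtain ⟨z, hz⟩ := exists_prime_orderOf_dvd_card' q hqT
    have hz' : orderOf (z : Z) ∣ a := orderOf_dvd_of_pow_eq_one z.2
    rw [Subgroup.orderOf_coe, hz] at hz'
    exact hq.dvd_of_dvd_pow (hz'.trans (Nat.gcd_dvd_right _ _))
  · have h1 : (P.ker.map Z.subtype).relIndex Z = Nat.card P.range := by
      rw [relIndex, subgroupOf, comap_map_eq_self_of_injective Z.subtype_injective, index_ker]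
    rw [h1]
    refine Nat.coprime_of_dvd fun q hq hqR hqn => ?_
    haveI := Fact.mk hq
    obtain ⟨⟨w, z, hzw⟩, hw⟩ := exists_prime_orderOf_dvd_card' q hqR
    have hwb : orderOf w ∣ b := by
      refine orderOf_dvd_of_pow_eq_one ?_
      rw [← hzw]
      show (z ^ a) ^ b = 1
      rw [← pow_mul, ← hb, hN, pow_card_eq_one']
    rw [← Subgroup.orderOf_coe] at hw
    rw [show orderOf w = q from hw] at hwb
    exact hq.one_lt.ne' (Nat.eq_one_of_dvd_coprimes hbn hwb hqn)

/-- A central extension with coprime layers splits. -/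
theorem exists_split {X : Type u} [Group X] [Fintype X] (E Z : Subgroup X) [E.Normal]
    (hZE : Z ≤ E) (hZc : Z ≤ center X) (hcop : E.index.Coprime (Z.relIndex E)) :
    ∃ T E₁ : Subgroup X, T ≤ Z ∧ E₁ ≤ E ∧ E₁.Normal ∧
      (∀ e ∈ E, ∃ t ∈ T, ∃ g ∈ E₁, t * g = e) ∧ (∀ t ∈ T, t ∈ E₁ → t = 1) ∧
      (Nat.card E₁).Coprime E₁.index ∧ (Nat.card E₁).Coprime E.index := by
  set n := E.index with hn
  obtain ⟨T, hTZ, hTn, hTc⟩ := exists_central_part Z hZc n
  have hTc' : T ≤ center X := hTZ.trans hZc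
  have hTE : T ≤ E := hTZ.trans hZE
  haveI hTN : T.Normal := ⟨fun t ht g => by
    rw [mem_center_iff.1 (hTc' ht) g, mul_inv_cancel_right]; exact ht⟩
  have hcopT : (Nat.card T).Coprime (T.relIndex E) := by
    rw [← relIndex_mul_relIndex T Z E hTZ hZE]
    refine Nat.coprime_of_dvd fun q hq h1 h2 => ?_
    have hqn := hTn q hq h1
    rcases hq.dvd_mul.1 h2 with h | h
    · exact hq.one_lt.ne' (Nat.eq_one_of_dvd_coprimes hTc h hqn)
    · exact hq.one_lt.ne' (Nat.eq_one_of_dvd_coprimes hcop hqn h)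
  obtain ⟨F, hF⟩ := exists_right_complement'_of_coprime (N := T.subgroupOf E) (by
    rwa [Nat.card_congr (subgroupOfEquivOfLe hTE).toEquiv])
  set E₁ := F.map E.subtype with hE₁
  have hE₁E : E₁ ≤ E := map_subtype_le _
  have hcardE₁ : Nat.card E₁ = T.relIndex E := by
    rw [hE₁, card_map_of_injective E.subtype_injective, relIndex,
      hF.symm.index_eq_card]
  have hdec : ∀ e ∈ E, ∃ t ∈ T, ∃ g ∈ E₁, t * g = e := by
    intro e he
    have h : (⟨e, he⟩ : E) ∈ T.subgroupOf E ⊔ F := hF.sup_eq_top ▸ Subgroup.mem_top _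
    rw [mem_sup_of_normal_left] at h
    obtain ⟨t, ht, g, hg, htg⟩ := h
    exact ⟨t, ht, g, ⟨g, hg, rfl⟩, congrArg Subtype.val htg⟩
  have hdisj : ∀ t ∈ T, t ∈ E₁ → t = 1 := by
    intro t ht ht'
    rw [← hcardE₁] at hcopT
    have := (Subgroup.inf_eq_bot_of_coprime hcopT).le (Subgroup.mem_inf.2 ⟨ht, ht'⟩)
    exact this
  haveI hE₁n : E₁.Normal := ⟨fun g hg x => by
    obtain ⟨t, ht, h, hh, e⟩ := hdec _ ((inferInstance : E.Normal).conj_mem g (hE₁E hg) x)
    have hk : ∀ y ∈ E₁, y ^ Nat.card E₁ = 1 := fun y hy =>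
      congrArg Subtype.val (pow_card_eq_one' (x := (⟨y, hy⟩ : E₁)))
    have h1 : t ^ Nat.card E₁ = 1 := by
      have h2 : (t * h) ^ Nat.card E₁ = 1 := by
        rw [e, conj_pow, hk g hg, mul_one, mul_inv_cancel]
      rwa [Commute.mul_pow (show Commute t h from (mem_center_iff.1 (hTc' ht) h).symm), hk h hh,
        mul_one] at h2
    have h2 : orderOf t = 1 := Nat.eq_one_of_dvd_coprimes hcopT (orderOf_dvd_natCard (G := X) t |> fun _ => by
      rw [show orderOf t = orderOf (⟨t, ht⟩ : T) from (Subgroup.orderOf_coe (⟨t, ht⟩ : T))]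
      exact orderOf_dvd_natCard _) (by rw [← hcardE₁]; exact orderOf_dvd_of_pow_eq_one h1)
    rw [← e, orderOf_eq_one_iff.1 h2, one_mul]
    exact hh⟩
  have hindex : E₁.index = Nat.card T * n := by
    have h1 := Subgroup.relIndex_mul_index hE₁E
    rw [← h1, hn]
    congr 1
    have h2 : E₁.subgroupOf E = F := comap_map_eq_self_of_injective E.subtype_injective F
    rw [relIndex, h2, hF.index_eq_card, Nat.card_congr (subgroupOfEquivOfLe hTE).toEquiv]
  have hcopE₁ : (Nat.card E₁).Coprime E₁.index := by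
    rw [hindex, hcardE₁]
    refine Nat.Coprime.mul_right hcopT.symm ?_
    rw [← relIndex_mul_relIndex T Z E hTZ hZE]
    exact Nat.Coprime.mul_left hTc hcop.symm
  exact ⟨T, E₁, hTZ, hE₁E, hE₁n, hdec, hdisj, hcopE₁,
    hcopE₁.coprime_dvd_right (hindex ▸ dvd_mul_left n _)⟩

/-- The central case: an invariant character over a linear character of a central subgroup. -/
theorem exists_inv_central {X : Type u} [Group X] [Fintype X] (E Z : Subgroup X) [E.Normal]
    [Fintype E] (hZE : Z ≤ E) (hZc : Z ≤ center X) (hcop : E.index.Coprime (Z.relIndex E))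
    (hsolv : Group.IsSolvable (X ⧸ E) ∨
      ∃ (Q : Type u) (_ : Group Q) (_ : Group.IsSolvable Q) (q : E →* Q), q.ker ≤ Z.subgroupOf E)
    (μ : Z →* ℂˣ) :
    ∃ β : E → ℂ, IsIrrCharacter E β ∧ (∀ (x : X) (g : E), β (cj E x g) = β g) ∧
      ∀ (z : Z) (g : E), β (inclusion hZE z * g) = (μ z : ℂ) * β g := by
  obtain ⟨T, E₁, hTZ, hE₁E, hE₁n, hdec, hdisj, hcopE₁, -⟩ := exists_split E Z hZE hZc hcop
  haveI := hE₁n
  have hTc' : T ≤ center X := hTZ.trans hZc
  have hTE : T ≤ E := hTZ.trans hZE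
  obtain ⟨A, hA⟩ := exists_right_complement'_of_coprime (N := E₁) hcopE₁
  have hcardA : Nat.card A = E₁.index := hA.symm.index_eq_card.symm
  -- the character of the coprime part
  let N₁ : Subgroup E₁ := Z.subgroupOf E₁
  haveI : N₁.Normal := ⟨fun m hm g => by
    show ((g * m * g⁻¹ : E₁) : X) ∈ Z
    push_cast
    rw [mem_center_iff.1 (hZc (show ((m : E₁) : X) ∈ Z from hm)) (g : X), mul_inv_cancel_right]
    exact hm⟩
  letI := Fintype.ofFinite E₁
  letI := Fintype.ofFinite N₁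
  let μ₁ : N₁ →* ℂˣ := μ.comp
    { toFun := fun m : N₁ => (⟨((m : E₁) : X), m.2⟩ : Z), map_one' := rfl,
      map_mul' := fun _ _ => rfl }
  let θ₁ : IrrCharacter N₁ := ⟨fun m => (μ₁ m : ℂ), Char.isIrrCharacter_monoidHom μ₁⟩
  have hnorm : ∀ s ∈ A, ∀ g ∈ E₁, s * g * s⁻¹ ∈ E₁ := fun s _ g hg => hE₁n.conj_mem g hg s
  let φ := Glauberman.conjHom E₁ A hnorm
  have hfix : ∀ (s : A) (x : E₁), x ∈ N₁ → φ s x = x := fun s x hx => Subtype.ext (by
    show (s : X) * x * (s : X)⁻¹ = x
    rw [mem_center_iff.1 (hZc (show (x : X) ∈ Z from hx)) (s : X), mul_inv_cancel_right])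
  have hAN : ∀ s, ∀ x ∈ N₁, φ s x ∈ N₁ := fun s x hx => by rw [hfix s x hx]; exact hx
  obtain ⟨χ, hχ1, hχ2⟩ : ∃ χ : IrrCharacter E₁,
      classInner (fun m : N₁ => (χ : E₁ → ℂ) m) (θ₁ : N₁ → ℂ) ≠ 0 ∧
      ∀ s g, (χ : E₁ → ℂ) (φ s g) = (χ : E₁ → ℂ) g := by
    rcases hsolv with hs | ⟨Q, hQ, hQs, q, hq⟩
    · haveI : Group.IsSolvable A := by
        let r := (QuotientGroup.mk' E).comp A.subtype
        haveI : Group.IsSolvable r.ker := by
          refine Group.isSolvable_of_comm fun a b => ?_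
          have ha : ((a : A) : X) ∈ E := (QuotientGroup.eq_one_iff _).1 a.2
          have hb : ((b : A) : X) ∈ E := (QuotientGroup.eq_one_iff _).1 b.2
          obtain ⟨t, ht, g, hg, e⟩ := hdec _ ha
          obtain ⟨t', ht', g', hg', e'⟩ := hdec _ hb
          have hzero : ∀ y ∈ E₁, QuotientGroup.mk' E₁ y = 1 := fun y hy =>
            (QuotientGroup.eq_one_iff _).2 hy
          have hmem : (((a : A) : X) * b * ((a : A) : X)⁻¹ * ((b : A) : X)⁻¹) ∈ E₁ := by
            rw [← QuotientGroup.eq_one_iff]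
            show QuotientGroup.mk' E₁ _ = 1
            simp only [map_mul, map_inv, ← e, ← e', hzero g hg, hzero g' hg', mul_one]
            rw [← map_mul, (mem_center_iff.1 (hTc' ht) t').symm, map_mul]
            group
          have hmemA : (((a : A) : X) * b * ((a : A) : X)⁻¹ * ((b : A) : X)⁻¹) ∈ A :=
            A.mul_mem (A.mul_mem (A.mul_mem (a : A).2 (b : A).2) (A.inv_mem (a : A).2))
              (A.inv_mem (b : A).2)
          have h1 : (((a : A) : X) * b * ((a : A) : X)⁻¹ * ((b : A) : X)⁻¹) = 1 :=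
            (Subgroup.mem_bot.1 (hA.disjoint.le_bot (Subgroup.mem_inf.2 ⟨hmem, hmemA⟩)))
          rw [mul_inv_eq_one, mul_inv_eq_iff_eq_mul] at h1
          exact Subtype.ext (Subtype.ext h1)
        exact Group.isSolvable_of_ker_le_range r.ker.subtype r (by rw [range_subtype])
      haveI : Group.IsSolvable φ.range :=
        Group.isSolvable_of_surjective φ.rangeRestrict_surjective
      obtain ⟨χ, hχ2, hχ1⟩ := Glauberman.exists_inv_over φ.range N₁ inferInstance
        (hcopE₁.coprime_dvd_right (hcardA ▸ card_range_dvd φ))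
        (by rintro _ ⟨s, rfl⟩ x hx; exact hAN s x hx) θ₁ (by
          rintro _ ⟨s, rfl⟩ x
          exact congrArg _ (Subtype.ext (hfix s x x.2)))
      refine ⟨χ, fun h0 => hχ1 ?_, fun s g => hχ2 _ ⟨s, rfl⟩ g⟩
      have := Glauberman.mult_spec N₁.subtype χ θ₁
      simp only [Subgroup.coe_subtype] at this
      rw [h0] at this
      exact_mod_cast this.symm
    · haveI : Group.IsSolvable (E₁ ⧸ N₁) := by
        let r := q.comp (inclusion hE₁E)
        have hr : r.ker ≤ N₁ := fun g hg => hq (show inclusion hE₁E g ∈ q.ker from hg)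
        haveI : Group.IsSolvable (E₁ ⧸ r.ker) :=
          Group.isSolvable_of_isSolvable_injective (QuotientGroup.kerLift_injective r)
        refine Group.isSolvable_of_surjective
          (f := QuotientGroup.map r.ker N₁ (MonoidHom.id E₁) hr) fun y => ?_
        obtain ⟨g, rfl⟩ := QuotientGroup.mk_surjective y
        exact ⟨g, rfl⟩
      exact exists_inv_over_solvable (⊥ : Subgroup A) φ N₁ hAN
        (fun s hs => ⟨1, N₁.one_mem, fun g => by
          rw [Subgroup.mem_bot.1 hs, map_one]; simp⟩) inferInstance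
        (by
          rw [index_bot, hcardA]
          exact hcopE₁.symm.coprime_dvd_right (Dvd.intro_left _ N₁.card_mul_index))
        θ₁ (fun s m => congrArg _ (Subtype.ext (hfix s m m.2)))
  obtain ⟨c, hc⟩ := exists_central_hom χ.2 N₁ fun m hm => mem_center_iff.2 fun g =>
    Subtype.ext (mem_center_iff.1 (hZc hm) g)
  have hcμ : c = μ₁ := central_hom_eq_of_constituent N₁ hc hχ1
  subst hcμ
  have hχX : ∀ (x : X) (g : E₁), (χ : E₁ → ℂ) (cj E₁ x g) = (χ : E₁ → ℂ) g := by
    intro x g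
    obtain ⟨⟨⟨h, hh⟩, ⟨a, ha⟩⟩, hx, -⟩ := hA.existsUnique x
    dsimp only at hx
    rw [← hx, cj_mul]
    exact (Char.irr_isClassFunction χ.2 (cj E₁ a g) ⟨h, hh⟩).trans (hχ2 ⟨a, ha⟩ g)
  -- the product decomposition
  let Mmap : T × E₁ →* E :=
    MonoidHom.mk' (fun p => ⟨(p.1 : X) * p.2, E.mul_mem (hTE p.1.2) (hE₁E p.2.2)⟩) fun p p' =>
      Subtype.ext (by
        show ((p.1 : X) * p'.1) * ((p.2 : X) * p'.2) = (p.1 : X) * p.2 * ((p'.1 : X) * p'.2)
        rw [mul_assoc (p.1 : X) (p'.1 : X), ← mul_assoc (p'.1 : X),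
          ← mem_center_iff.1 (hTc' p'.1.2) (p.2 : X)]
        group)
  have hM : ∀ p, ((Mmap p : E) : X) = (p.1 : X) * p.2 := fun p => rfl
  have hMbij : Function.Bijective Mmap := by
    refine ⟨(injective_iff_map_eq_one Mmap).2 fun p hp => ?_, fun e => ?_⟩
    · have h1 : (p.1 : X) * p.2 = 1 := congrArg Subtype.val hp
      have h2 : (p.1 : X) = 1 := hdisj _ p.1.2 (by
        rw [eq_inv_of_mul_eq_one_left h1]; exact E₁.inv_mem p.2.2)
      rw [h2, one_mul] at h1
      exact Prod.ext (Subtype.ext h2) (Subtype.ext h1)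
    · obtain ⟨t, ht, g, hg, e'⟩ := hdec e e.2
      exact ⟨(⟨t, ht⟩, ⟨g, hg⟩), Subtype.ext e'⟩
  let Me : T × E₁ ≃* E := MulEquiv.ofBijective Mmap hMbij
  let f2 : E →* E₁ := (MonoidHom.snd T E₁).comp Me.symm.toMonoidHom
  let f1 : E →* ℂˣ :=
    ((μ.comp (inclusion hTZ)).comp (MonoidHom.fst T E₁)).comp Me.symm.toMonoidHom
  refine ⟨fun e => (f1 e : ℂ) * (χ : E₁ → ℂ) (f2 e), Char.isIrrCharacter_mul_monoidHom
    (CharInd.irr_comp_surjective f2 (fun g => ⟨Me (1, g), by simp [f2]⟩) χ.2) f1, ?_, ?_⟩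
  · intro x e
    obtain ⟨⟨t, g⟩, rfl⟩ := Me.surjective e
    have h1 : cj E x (Me (t, g)) = Me (t, cj E₁ x g) := Subtype.ext (by
      show x * ((t : X) * g) * x⁻¹ = (t : X) * (x * g * x⁻¹)
      rw [← mul_assoc x, mem_center_iff.1 (hTc' t.2) x]
      group)
    simp only [f1, f2, h1, MonoidHom.comp_apply, MulEquiv.coe_toMonoidHom,
      MulEquiv.symm_apply_apply, MonoidHom.coe_fst, MonoidHom.coe_snd, hχX]
  · intro z e
    obtain ⟨⟨t, g⟩, rfl⟩ := Me.surjective e
    obtain ⟨⟨t₁, g₁⟩, hz⟩ := Me.surjective (inclusion hZE z)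
    have hzx : (t₁ : X) * g₁ = (z : X) := congrArg Subtype.val hz
    have hg₁ : g₁ ∈ N₁ := by
      show (g₁ : X) ∈ Z
      rw [show (g₁ : X) = (t₁ : X)⁻¹ * z by rw [← hzx, inv_mul_cancel_left]]
      exact Z.mul_mem (Z.inv_mem (hTZ t₁.2)) z.2
    have hμ : μ z = μ (inclusion hTZ t₁) * μ₁ ⟨g₁, hg₁⟩ := by
      show μ z = μ _ * μ _
      rw [← map_mul]
      exact congrArg μ (Subtype.ext hzx.symm)
    simp only [f1, f2, ← hz, ← map_mul, MonoidHom.comp_apply, MulEquiv.coe_toMonoidHom,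
      MulEquiv.symm_apply_apply, MonoidHom.coe_fst, MonoidHom.coe_snd, Prod.mk_mul_mk]
    rw [map_mul, map_mul, hμ, hc ⟨g₁, hg₁⟩ g, Units.val_mul, Units.val_mul]
    ring

end Cfsg.Agent.CharExt
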